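import Groth.Agent.ToposFinLib.Site
import Mathlib.CategoryTheory.Sites.Pullback
import Mathlib.CategoryTheory.Adjunction.Limits

/-!
Algebraic topoi, coherent generators and coherent morphisms of topoi.
-/

set_option autoImplicit false
set_option linter.style.haveILetI false
set_option backward.defeqAttrib.useBackward true
set_option backward.isDefEq.respectTransparency false

universe u

open CategoryTheory CategoryTheory.Limits Opposite ToposFin

namespace Groth.Agent.ToposFinLib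

open SheafTopos SheafTopos.InverseImage

variable {C : Type u} [SmallCategory C] {J : GrothendieckTopology C}

theorem exists_subtype_cover {S : Set (Sh J)} (hgen : IsGenerating S) (X : Sh J) :
    ∃ (ι : Type u) (a : ι → ↥S) (π : ∀ i, (a i).1 ⟶ X), SGA4.IsEpiFamily π := by
  obtain ⟨ι, F, π, h₁, h₂⟩ := hgen X
  exact ⟨ι, fun i => ⟨F i, h₁ i⟩, π, h₂⟩

theorem hasQCGenerators_of_set {S : Set (Sh J)} (hqc : ∀ K ∈ S, IsQC K) (hgen : IsGenerating S) :
    HasQCGenerators J := fun X => by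
  obtain ⟨ι, F, π, h₁, h₂⟩ := hgen X
  exact ⟨ι, F, π, fun i => hqc _ (h₁ i), (epi_desc_iff π).2 h₂⟩

theorem isCoherent_of_mem {S : Set (Sh J)} (hqc : ∀ K ∈ S, IsQC K) (hgen : IsGenerating S)
    (hpb : ClosedUnderPullbacks S) {K : Sh J} (hK : K ∈ S) : IsCoherent K :=
  ⟨hqc K hK, isQS_of_generators _ (exists_subtype_cover hgen) fun L s =>
    isQCHom_of_generators _ (fun M : ↥S => hqc _ M.2) (exists_subtype_cover hgen) s fun M r => by
      obtain ⟨P, p, q, hP, sq⟩ := hpb s r L.2 M.2 hK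
      exact isQC_of_iso sq.isoPullback (hqc P hP)⟩

/-- Over a locally coherent topos every map between members of the generating set has quasi-separated fibre
products. -/
theorem isQSHom_iff_pullback_isQS {S : Set (Sh J)} (hqc : ∀ K ∈ S, IsQC K) (hgen : IsGenerating S)
    (hpb : ClosedUnderPullbacks S) {X Y : Sh J} (f : X ⟶ Y) :
    IsQSHom f ↔ ∀ (Y' : Sh J) (g : Y' ⟶ Y), IsQS Y' → IsQS (pullback f g) := by
  refine ⟨fun hf Y' g hY' => isQS_of_isQSHom _ (isQSHom_baseChange hf (IsPullback.of_hasPullback f g)) hY',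
    fun h => ?_⟩
  obtain ⟨ι, a, π, hπ⟩ := exists_subtype_cover hgen Y
  refine isQSHom_of_local_target (hasQCGenerators_of_set hqc hgen) f π hπ fun i => ?_
  obtain ⟨κ, b, ρ, hρ⟩ := exists_subtype_cover hgen (pullback f (π i))
  refine isQSHom_of_products (hasQCGenerators_of_set hqc hgen) _ ρ hρ (fun j => hqc _ (b j).2) (fun j l => ?_)
    (h _ _ (isCoherent_of_mem hqc hgen hpb (a i).2).2)
  obtain ⟨P, p, q, hP, sq⟩ := hpb (ρ j ≫ pullback.snd f (π i)) (ρ l ≫ pullback.snd f (π i)) (b j).2 (b l).2 (a i).2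
  exact isQS_of_iso sq.isoPullback (isCoherent_of_mem hqc hgen hpb hP).2

/-- In an algebraic topos every morphism out of a quasi-separated object is quasi-separated. -/
theorem isQSHom_of_isQS_source (hE : IsAlgebraic J) {X Y : Sh J} (f : X ⟶ Y) (hX : IsQS X) : IsQSHom f := by
  obtain ⟨S, hqc, hgen, hpb, heq⟩ := hE
  have key : ∀ {K W : Sh J} (s : K ⟶ W), K ∈ S → IsQSHom s := by
    intro K W s hK
    rw [isQSHom_iff]
    intro Z a b hZ hab
    obtain ⟨ι, c, π, hπ⟩ := exists_subtype_cover hgen Z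
    obtain ⟨t, ht⟩ := exists_finite_subcover hZ π hπ
    refine isQC_equalizer_of_cover a b (fun i : t => π i) ht fun i => ?_
    obtain ⟨P, e, w, hP, ⟨hlim⟩⟩ := heq (π i.1 ≫ a) (π i.1 ≫ b) (c i.1).2 hK
    exact isQC_of_iso (hlim.conePointUniqueUpToIso (limit.isLimit _)) (hqc P hP)
  obtain ⟨ι, c, π, hπ⟩ := exists_subtype_cover hgen X
  exact isQSHom_of_source_cover f π (fun i => isQCHom_of_isQS hX (hqc _ (c i).2) _) (fun i => key _ (c i).2)
    (exists_lift_of_generators (hasQCGenerators_of_set hqc hgen) π hπ)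

theorem hasQCGenerators_of_isAlgebraic (hE : IsAlgebraic J) : HasQCGenerators J := by
  obtain ⟨S, hqc, hgen, -, -⟩ := hE
  exact hasQCGenerators_of_set hqc hgen

theorem isQS_iff_isQSHom (hE : IsAlgebraic J) {X Y : Sh J} (f : X ⟶ Y) (hY : IsQS Y) :
    IsQS X ↔ IsQSHom f :=
  ⟨isQSHom_of_isQS_source hE f, fun h => isQS_of_isQSHom f h hY⟩

theorem isCoherent_iff_isCohHom (hE : IsAlgebraic J) {X Y : Sh J} (f : X ⟶ Y) (hY : IsCoherent Y) :
    IsCoherent X ↔ IsCohHom f :=
  ⟨fun h => ⟨isQCHom_of_isQS hY.2 h.1 f, isQSHom_of_isQS_source hE f h.2⟩,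
    fun h => ⟨isQC_of_isPullback h.1 (IsPullback.of_id_fst (f := f)) hY.1, isQS_of_isQSHom f h.2 hY.2⟩⟩

theorem pullback_criterion (hE : IsAlgebraic J) {X Y : Sh J} (f : X ⟶ Y) {ι : Type u} {Yi : ι → Sh J}
    (g : ∀ i, Yi i ⟶ Y) (hg : SGA4.IsEpiFamily g) :
    ((∀ i, IsQS (Yi i)) → (IsQSHom f ↔ ∀ i, IsQS (pullback f (g i)))) ∧
      ((∀ i, IsCoherent (Yi i)) → (IsCohHom f ↔ ∀ i, IsCoherent (pullback f (g i)))) := by
  have hQ := hasQCGenerators_of_isAlgebraic hE
  refine ⟨fun hY => ⟨fun h i => (isQS_iff_isQSHom hE _ (hY i)).2 (isQSHom_baseChange h (IsPullback.of_hasPullback f (g i))),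
    fun h => isQSHom_of_local_target hQ f g hg fun i => (isQS_iff_isQSHom hE _ (hY i)).1 (h i)⟩,
    fun hY => ⟨fun h i => (isCoherent_iff_isCohHom hE _ (hY i)).2
      ⟨isQCHom_baseChange h.1 (IsPullback.of_hasPullback f (g i)),
        isQSHom_baseChange h.2 (IsPullback.of_hasPullback f (g i))⟩, fun h => ?_⟩⟩
  exact ⟨isQCHom_of_local_target hQ f g hg fun i => ((isCoherent_iff_isCohHom hE _ (hY i)).1 (h i)).1,
    isQSHom_of_local_target hQ f g hg fun i => ((isCoherent_iff_isCohHom hE _ (hY i)).1 (h i)).2⟩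

section Morphism

variable {D : Type u} [SmallCategory D] {K : GrothendieckTopology D} (F : Sh K ⥤ Sh J)

theorem isEpiFamily_map [F.IsLeftAdjoint] {ι : Type*} {H : Sh K} {G : ι → Sh K} {π : ∀ i, G i ⟶ H}
    (h : SGA4.IsEpiFamily π) : SGA4.IsEpiFamily fun i => F.map (π i) := by
  intro Z a b hab
  let adj := Adjunction.ofIsLeftAdjoint F
  apply (adj.homEquiv H Z).injective
  refine h _ _ _ fun i => ?_
  rw [← adj.homEquiv_naturality_left, ← adj.homEquiv_naturality_left, hab i]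

theorem isQC_map [F.IsLeftAdjoint] {α : Type*} (G : α → Sh K)
    (hgen : ∀ X : Sh K, ∃ (ι : Type u) (a : ι → α) (π : ∀ i, G (a i) ⟶ X), SGA4.IsEpiFamily π)
    (h : ∀ a, IsQC (F.obj (G a))) {X : Sh K} (hX : IsQC X) : IsQC (F.obj X) := by
  obtain ⟨ι, a, π, hπ⟩ := hgen X
  obtain ⟨t, ht⟩ := exists_finite_subcover hX π hπ
  exact isQC_of_finite_cover _ (isEpiFamily_map F ht) fun i => h _

theorem isQS_map [F.IsLeftAdjoint] [PreservesFiniteLimits F] (hE' : HasQCGenerators J) {α : Type*} (G : α → Sh K)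
    (hgen : ∀ X : Sh K, ∃ (ι : Type u) (a : ι → α) (π : ∀ i, G (a i) ⟶ X), SGA4.IsEpiFamily π)
    (hG : ∀ a, IsQC (G a)) (h : ∀ a, IsCoherent (F.obj (G a))) {X : Sh K} (hX : IsQS X) : IsQS (F.obj X) := by
  obtain ⟨ι, a, π, hπ⟩ := hgen X
  refine isQS_of_coherent_cover hE' _ (isEpiFamily_map F hπ) (fun i => h _) fun i j => ?_
  exact isQC_of_iso ((IsPullback.of_hasPullback (π i) (π j)).map F).isoPullback
    (isQC_map F G hgen (fun b => (h b).1) (hX _ _ _ _ (hG _) (hG _)))

theorem coherent_iff_on_generators [F.IsLeftAdjoint] [PreservesFiniteLimits F] (hE' : HasQCGenerators J)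
    {S : Set (Sh K)} (hS : ∀ X ∈ S, IsCoherent X) (hgen : IsGenerating S) :
    ((∀ X : Sh K, IsQC X → IsQC (F.obj X)) ∧ (∀ X : Sh K, IsQS X → IsQS (F.obj X))) ↔
      ∀ X ∈ S, IsCoherent (F.obj X) :=
  ⟨fun h X hX => ⟨h.1 X (hS X hX).1, h.2 X (hS X hX).2⟩, fun h =>
    ⟨fun _ hX => isQC_map F _ (exists_subtype_cover hgen) (fun b => (h _ b.2).1) hX,
      fun _ hX => isQS_map F hE' _ (exists_subtype_cover hgen) (fun b => (hS _ b.2).1) (fun b => h _ b.2) hX⟩⟩

theorem isQCHom_map [F.IsLeftAdjoint] [PreservesFiniteLimits F] {S : Set (Sh K)} (hqc : ∀ X ∈ S, IsQC X)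
    (hgen : IsGenerating S) (hpb : ClosedUnderPullbacks S) (hE' : HasQCGenerators J)
    (hFqc : ∀ X : Sh K, IsQC X → IsQC (F.obj X)) (hFqs : ∀ X : Sh K, IsQS X → IsQS (F.obj X))
    {X Y : Sh K} (v : X ⟶ Y) (hv : IsQCHom v) : IsQCHom (F.map v) := by
  obtain ⟨ι, a, π, hπ⟩ := exists_subtype_cover hgen Y
  refine isQCHom_of_local_target hE' _ _ (isEpiFamily_map F hπ) fun i => ?_
  have sq := (IsPullback.of_hasPullback v (π i)).map F
  rw [← sq.isoPullback_inv_snd]
  exact isQCHom_comp (isQCHom_of_isIso _) (isQCHom_of_isQS (hFqs _ (isCoherent_of_mem hqc hgen hpb (a i).2).2)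
    (hFqc _ (hv _ (π i) (hqc _ (a i).2))) (F.map (pullback.snd v (π i))))

end Morphism

section SitePullback

variable {D : Type u} [SmallCategory D] (J' : GrothendieckTopology C) (K : GrothendieckTopology D) (G : C ⥤ D)
  [Functor.IsContinuous G J' K]

/-- The inverse image sends sheafified representables to sheafified representables. -/
theorem nonempty_sheafPullback_rep_iso (X : C) :
    Nonempty ((G.sheafPullback (Type u) J' K).obj ((rep J').obj X) ≅ (rep K).obj (G.obj X)) := by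
  let adj := G.sheafAdjunctionContinuous (Type u) J' K
  refine ⟨(Coyoneda.fullyFaithful.preimageIso (NatIso.ofComponents (fun Z => Equiv.toIso
    ((ev K (G.obj X) Z).trans ((adj.homEquiv ((rep J').obj X) Z).trans
      (ev J' X ((G.sheafPushforwardContinuous (Type u) J' K).obj Z))).symm)) fun {Z Z'} q => ?_)).unop⟩
  ext a
  show (adj.homEquiv _ Z').symm ((ev J' X _).symm (ev K (G.obj X) Z' (a ≫ q))) =
    (adj.homEquiv _ Z).symm ((ev J' X _).symm (ev K (G.obj X) Z a)) ≫ q
  rw [← Adjunction.homEquiv_naturality_right_symm, ev_comp, ev_symm_comp]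
  rfl

/-- Inverse image along a continuous functor between sites with quasi-compact objects is coherent. -/
theorem sheafPullback_coherent [HasPullbacks C] [HasPullbacks D] (hC : ∀ X : C, IsQCSite J' X)
    (hD : ∀ Y : D, IsQCSite K Y) [PreservesFiniteLimits (G.sheafPullback (Type u) J' K)] :
    (∀ X : Sh J', IsQC X → IsQC ((G.sheafPullback (Type u) J' K).obj X)) ∧
      (∀ X : Sh J', IsQS X → IsQS ((G.sheafPullback (Type u) J' K).obj X)) := by
  haveI : (G.sheafPullback (Type u) J' K).IsLeftAdjoint :=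
    (G.sheafAdjunctionContinuous (Type u) J' K).isLeftAdjoint
  have h : ∀ a : C, IsCoherent ((G.sheafPullback (Type u) J' K).obj ((rep J').obj a)) := fun a => by
    obtain ⟨e⟩ := nonempty_sheafPullback_rep_iso J' K G a
    exact ⟨isQC_of_iso e.symm (isQC_rep hD _), isQS_of_iso e.symm (isCoherent_rep hD _).2⟩
  exact ⟨fun _ hX => isQC_map _ _ exists_rep_cover (fun a => (h a).1) hX,
    fun _ hX => isQS_map _ (hasQCGenerators hD) _ exists_rep_cover (isQC_rep hC) h hX⟩

end SitePullback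

end Groth.Agent.ToposFinLib
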