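import Groth.Agent.ToposFinLib.Coprod
import Mathlib.CategoryTheory.Limits.Types.Filtered
import Mathlib.CategoryTheory.Limits.Types.Colimits

/-!
Morphisms from quasi-compact, coherent and finitely presented objects into filtered colimits.
-/

set_option autoImplicit false
set_option linter.style.haveILetI false
set_option backward.defeqAttrib.useBackward true
set_option backward.isDefEq.respectTransparency false

universe u

open CategoryTheory CategoryTheory.Limits Opposite ToposFin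

namespace Groth.Agent.ToposFinLib

open SheafTopos SheafTopos.InverseImage

variable {C : Type u} [SmallCategory C] {J : GrothendieckTopology C}

/-- Compatible maps out of a jointly epimorphic family glue. -/
theorem exists_desc_hom {ι : Type*} {H Z : Sh J} {G : ι → Sh J} (g : ∀ i, G i ⟶ H) (hg : SGA4.IsEpiFamily g)
    (a : ∀ i, G i ⟶ Z) (h : ∀ i j, pullback.fst (g i) (g j) ≫ a i = pullback.snd (g i) (g j) ≫ a j) :
    ∃ A : H ⟶ Z, ∀ i, g i ≫ A = a i := by
  refine exists_desc g hg a fun V i j t t' htt => ?_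
  obtain ⟨p, rfl⟩ := (ev J V.unop (G i)).surjective t
  obtain ⟨q, rfl⟩ := (ev J V.unop (G j)).surjective t'
  have hpq : p ≫ g i = q ≫ g j := (ev J V.unop H).injective (by rw [ev_comp, ev_comp]; exact htt)
  have e := congrArg (pullback.lift p q hpq ≫ ·) (h i j)
  simp only [pullback.lift_fst_assoc, pullback.lift_snd_assoc] at e
  exact (ev_comp _ p _).symm.trans ((congrArg _ e).trans (ev_comp _ q _))

section Post

variable {I : Type u} [SmallCategory I] (D : I ⥤ Sh J) (X : Sh J)

theorem post_surjective_iff : Function.Surjective (colimit.post D (coyoneda.obj (op X))) ↔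
    ∀ f : X ⟶ colimit D, ∃ (i : I) (x : X ⟶ D.obj i), x ≫ colimit.ι D i = f := by
  refine ⟨fun h f => ?_, fun h f => ?_⟩
  · obtain ⟨z, rfl⟩ := h f
    obtain ⟨i, x, rfl⟩ := Types.jointly_surjective' z
    exact ⟨i, x, (ConcreteCategory.congr_hom (colimit.ι_post D (coyoneda.obj (op X)) i) x).symm⟩
  · obtain ⟨i, x, hx⟩ := h f
    exact ⟨colimit.ι (D ⋙ coyoneda.obj (op X)) i x,
      (ConcreteCategory.congr_hom (colimit.ι_post D (coyoneda.obj (op X)) i) x).trans hx⟩

theorem post_injective_iff [IsFiltered I] : Function.Injective (colimit.post D (coyoneda.obj (op X))) ↔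
    ∀ (i : I) (x y : X ⟶ D.obj i), x ≫ colimit.ι D i = y ≫ colimit.ι D i →
      ∃ (j : I) (m : i ⟶ j), x ≫ D.map m = y ≫ D.map m := by
  have hι : ∀ (i : I) (x : X ⟶ D.obj i), colimit.post D (coyoneda.obj (op X))
      (colimit.ι (D ⋙ coyoneda.obj (op X)) i x) = x ≫ colimit.ι D i := fun i x =>
    ConcreteCategory.congr_hom (colimit.ι_post D (coyoneda.obj (op X)) i) x
  refine ⟨fun h i x y hxy => ?_, fun h z w hzw => ?_⟩
  · have e := h (((hι i x).trans hxy).trans (hι i y).symm)
    obtain ⟨j, f, g, hfg⟩ := (Types.FilteredColimit.colimit_eq_iff (F := D ⋙ coyoneda.obj (op X))).1 e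
    have hfg' : x ≫ D.map f = y ≫ D.map g := hfg
    refine ⟨IsFiltered.coeq f g, f ≫ IsFiltered.coeqHom f g, ?_⟩
    rw [D.map_comp, ← Category.assoc, hfg', Category.assoc, ← D.map_comp, ← IsFiltered.coeq_condition]
    simp
  · obtain ⟨i, x, rfl⟩ := Types.jointly_surjective' z
    obtain ⟨i', y, rfl⟩ := Types.jointly_surjective' w
    obtain ⟨j, m, hm⟩ := h (IsFiltered.max i i') (x ≫ D.map (IsFiltered.leftToMax i i'))
      (y ≫ D.map (IsFiltered.rightToMax i i')) (by simpa using ((hι i x).symm.trans hzw).trans (hι i' y))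
    refine (Types.FilteredColimit.colimit_eq_iff (F := D ⋙ coyoneda.obj (op X))).2
      ⟨j, IsFiltered.leftToMax i i' ≫ m, IsFiltered.rightToMax i i' ≫ m, ?_⟩
    show x ≫ D.map _ = y ≫ D.map _
    simpa using hm

theorem isFP_iff : IsFP X ↔ ∀ (I : Type u) [SmallCategory I] [IsFiltered I] (D : I ⥤ Sh J),
    (∀ (i : I) (x y : X ⟶ D.obj i), x ≫ colimit.ι D i = y ≫ colimit.ι D i →
      ∃ (j : I) (m : i ⟶ j), x ≫ D.map m = y ≫ D.map m) ∧
    ∀ f : X ⟶ colimit D, ∃ (i : I) (x : X ⟶ D.obj i), x ≫ colimit.ι D i = f :=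
  ⟨fun h I _ _ D => ⟨(post_injective_iff D X).1 (h I D).1, (post_surjective_iff D X).1 (h I D).2⟩,
    fun h I _ _ D => ⟨(post_injective_iff D X).2 (h I D).1, (post_surjective_iff D X).2 (h I D).2⟩⟩

/-- Two maps equal in a filtered colimit agree locally at some stage. -/
theorem isEpiFamily_equalizers [IsFiltered I] {i : I} (x y : X ⟶ D.obj i)
    (h : x ≫ colimit.ι D i = y ≫ colimit.ι D i) :
    SGA4.IsEpiFamily fun p : (Σ j, i ⟶ j) => equalizer.ι (x ≫ D.map p.2) (y ≫ D.map p.2) := by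
  refine Canonical.isEpiFamily_of_locally _ fun V s => ?_
  let E : Cocone (D ⋙ sheafToPresheaf J (Type u)) := colimit.cocone _
  obtain ⟨S, hS, hSx⟩ := Canonical.eq_of_colimit (colimit.isColimit D) (α := fun e => E.pt.obj (op e))
    (fun l a => E.pt.map l.op a) (fun k e a => (E.ι.app k).app (op e) a)
    (fun {k k'} m e a => ConcreteCategory.congr_hom (congrArg (fun (q : (D ⋙ sheafToPresheaf J (Type u)).obj k ⟶ E.pt) => q.app (op e)) (E.w m)) a)
    (fun k {e e'} l a => (ConcreteCategory.congr_hom ((E.ι.app k).naturality l.op) a).symm)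
    (i := i) (j := i) (e := V.unop) (x.hom.app V s) (y.hom.app V s)
    (ConcreteCategory.congr_hom (congrArg (fun m : X ⟶ colimit D => m.hom.app V) h) s)
  refine ⟨S, hS, fun W k hk => ?_⟩
  have e0 : (E.ι.app i).app (op W) ((D.obj i).obj.map k.op (x.hom.app V s)) =
      (E.ι.app i).app (op W) ((D.obj i).obj.map k.op (y.hom.app V s)) :=
    (ConcreteCategory.congr_hom ((E.ι.app i).naturality k.op) _).trans ((hSx hk).trans
      (ConcreteCategory.congr_hom ((E.ι.app i).naturality k.op) _).symm)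
  obtain ⟨j, f, g, hfg⟩ := (Types.FilteredColimit.isColimit_eq_iff
    ((D ⋙ sheafToPresheaf J (Type u)) ⋙ (evaluation Cᵒᵖ (Type u)).obj (op W))
    (isColimitOfPreserves ((evaluation Cᵒᵖ (Type u)).obj (op W)) (colimit.isColimit _))).1 e0
  let a := (ev J W X).symm (X.obj.map k.op s)
  have hx : ∀ (z : X ⟶ D.obj i) (m : i ⟶ j), ev J W _ ((a ≫ z) ≫ D.map m) =
      (D.map m).hom.app (op W) ((D.obj i).obj.map k.op (z.hom.app V s)) := fun z m => by
    rw [ev_comp, ev_comp, Equiv.apply_symm_apply]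
    exact congrArg _ (ConcreteCategory.congr_hom (z.hom.naturality k.op) s)
  have hxy : (a ≫ x) ≫ D.map f = (a ≫ y) ≫ D.map g := (ev J W _).injective ((hx x f).trans (hfg.trans (hx y g).symm))
  let n : i ⟶ IsFiltered.coeq f g := f ≫ IsFiltered.coeqHom f g
  have hn : a ≫ x ≫ D.map n = a ≫ y ≫ D.map n := by
    have := congrArg (· ≫ D.map (IsFiltered.coeqHom f g)) hxy
    simp only [Category.assoc, ← D.map_comp, ← IsFiltered.coeq_condition] at this
    exact this
  refine ⟨⟨_, n⟩, ev J W _ (equalizer.lift a hn), ?_⟩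
  rw [← ev_comp, equalizer.lift_ι]
  exact Equiv.apply_symm_apply _ _

end Post

theorem exists_common_stage {I : Type u} [SmallCategory I] [IsFiltered I] (i : I) (t : Finset (Σ j, i ⟶ j)) :
    ∃ (j : I) (m : i ⟶ j), ∀ p ∈ t, ∃ n : p.1 ⟶ j, p.2 ≫ n = m := by
  classical
  induction t using Finset.induction with
  | empty => exact ⟨i, 𝟙 i, by simp⟩
  | insert p t _ ih =>
    obtain ⟨j, m, hm⟩ := ih
    obtain ⟨k, a, b, hab⟩ := IsFiltered.span p.2 m
    refine ⟨k, m ≫ b, fun q hq => ?_⟩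
    rcases Finset.mem_insert.1 hq with rfl | hq
    · exact ⟨a, hab⟩
    · obtain ⟨n, hn⟩ := hm q hq
      exact ⟨n ≫ b, by rw [reassoc_of% hn]⟩

theorem exists_stage_eq_of_isQC {X : Sh J} (hX : IsQC X) {I : Type u} [SmallCategory I] [IsFiltered I]
    (D : I ⥤ Sh J) (i : I) (x y : X ⟶ D.obj i) (h : x ≫ colimit.ι D i = y ≫ colimit.ι D i) :
    ∃ (j : I) (m : i ⟶ j), x ≫ D.map m = y ≫ D.map m := by
  obtain ⟨t, ht⟩ := exists_finite_subcover hX _ (isEpiFamily_equalizers D X x y h)
  obtain ⟨j, m, hm⟩ := exists_common_stage i t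
  refine ⟨j, m, ht _ _ _ fun p => ?_⟩
  obtain ⟨n, hn⟩ := hm p.1 p.2
  rw [← hn, D.map_comp]
  simp only [← Category.assoc]
  exact congrArg (· ≫ D.map n) (by simpa only [Category.assoc] using equalizer.condition (x ≫ D.map p.1.2) (y ≫ D.map p.1.2))

/-- Quasi-compactness is detected by filtered colimits. -/
theorem isQC_iff_post_injective (X : Sh J) : IsQC X ↔
    ∀ (I : Type u) [SmallCategory I] [IsFiltered I] (D : I ⥤ Sh J),
      Function.Injective (colimit.post D (coyoneda.obj (op X))) := by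
  classical
  refine ⟨fun h I _ _ D => (post_injective_iff D X).2 (exists_stage_eq_of_isQC h D), fun h => ?_⟩
  rw [isQC_iff]
  intro ι F π hπ
  let d : ∀ s : Finset ι, (∐ fun i : s => F i) ⟶ X := fun s => Sigma.desc fun i => π i
  let D : Finset ι ⥤ Sh J :=
    { obj := fun s => pushout (d s) (d s)
      map := fun {s t} hst => pushout.desc (pushout.inl _ _) (pushout.inr _ _) (Sigma.hom_ext _ _ fun i => by
        simpa [d] using congrArg (Sigma.ι (fun i : t => F i) ⟨i.1, leOfHom hst i.2⟩ ≫ ·)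
          (pushout.condition (f := d t) (g := d t)))
      map_id := fun s => pushout.hom_ext (by simp) (by simp)
      map_comp := fun f g => pushout.hom_ext (by simp) (by simp) }
  haveI : IsFiltered (Finset ι) := inferInstance
  obtain ⟨s, m, hm⟩ := (post_injective_iff D X).1 (h (Finset ι) D) ∅ (pushout.inl _ _) (pushout.inr _ _) (by
    refine hπ _ _ _ fun i => ?_
    let m : (∅ : Finset ι) ⟶ {i} := homOfLE (Finset.empty_subset _)
    rw [← colimit.w D m, ← Category.assoc (pushout.inl _ _), ← Category.assoc (pushout.inr _ _)]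
    have e : π i ≫ pushout.inl (d {i}) (d {i}) = π i ≫ pushout.inr (d {i}) (d {i}) := by
      simpa [d] using congrArg (Sigma.ι (fun j : ({i} : Finset ι) => F j) ⟨i, Finset.mem_singleton_self i⟩ ≫ ·)
        (pushout.condition (f := d {i}) (g := d {i}))
    simp [D, reassoc_of% e])
  refine ⟨s, fun Z a b hab => ?_⟩
  have hd : d s ≫ a = d s ≫ b := Sigma.hom_ext _ _ fun i => by simpa [d] using hab i
  have e := congrArg (· ≫ pushout.desc a b hd) hm
  simpa [D] using e

/-- Maps from a coherent object into a filtered colimit factor. -/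
theorem exists_stage_of_coherent (hE : HasQCGenerators J) {X : Sh J} (hX : IsCoherent X) {I : Type u}
    [SmallCategory I] [IsFiltered I] (D : I ⥤ Sh J) (f : X ⟶ colimit D) :
    ∃ (i : I) (x : X ⟶ D.obj i), x ≫ colimit.ι D i = f := by
  classical
  obtain ⟨κ, _, G, ρ, i, l, hG, hρ, hl⟩ := exists_lift_of_generators hE _
    (Canonical.isEpiFamily_colimit (colimit.isColimit D)) X f hX.1
  haveI := Fintype.ofFinite κ
  obtain ⟨j, hj⟩ := IsFiltered.sup_objs_exists (Finset.univ.image i)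
  let n : ∀ k, i k ⟶ j := fun k => (hj (Finset.mem_image_of_mem i (Finset.mem_univ k))).some
  let a : ∀ k, G k ⟶ D.obj j := fun k => l k ≫ D.map (n k)
  have ha : ∀ k, a k ≫ colimit.ι D j = ρ k ≫ f := fun k => by
    simp only [a, Category.assoc, colimit.w]
    exact hl k
  choose j₂ m₂ hm₂ using fun p : κ × κ => exists_stage_eq_of_isQC (hX.2 _ _ (ρ p.1) (ρ p.2) (hG _) (hG _)) D j
    (pullback.fst _ _ ≫ a p.1) (pullback.snd _ _ ≫ a p.2)
    (by simp only [Category.assoc, ha, pullback.condition_assoc])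
  obtain ⟨j', m, hm⟩ := exists_common_stage j (Finset.univ.image fun p => (⟨j₂ p, m₂ p⟩ : Σ k, j ⟶ k))
  obtain ⟨A, hA⟩ := exists_desc_hom ρ hρ (fun k => a k ≫ D.map m) fun k k' => by
    obtain ⟨n', hn'⟩ := hm _ (Finset.mem_image_of_mem _ (Finset.mem_univ (k, k')))
    rw [← hn', D.map_comp]
    simpa using congrArg (· ≫ D.map n') (hm₂ (k, k'))
  refine ⟨j', A, hρ _ _ _ fun k => ?_⟩
  rw [reassoc_of% (hA k)]
  simpa using ha k

theorem isFP_of_coherent (hE : HasQCGenerators J) {X : Sh J} (hX : IsCoherent X) : IsFP X :=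
  (isFP_iff X).2 fun _ _ _ D => ⟨exists_stage_eq_of_isQC hX.1 D, exists_stage_of_coherent hE hX D⟩

theorem isFP_coequalizer {X₀ X₁ : Sh J} (a b : X₁ ⟶ X₀) (h₀ : IsFP X₀) (h₁ : IsQC X₁) :
    IsFP (coequalizer a b) := by
  rw [isFP_iff]
  intro I _ _ D
  constructor
  · intro i x y hxy
    obtain ⟨j, m, hm⟩ := ((isFP_iff X₀).1 h₀ I D).1 i (coequalizer.π a b ≫ x) (coequalizer.π a b ≫ y)
      (by simp [hxy])
    exact ⟨j, m, coequalizer.hom_ext (by simpa using hm)⟩
  · intro f
    obtain ⟨i, x, hx⟩ := ((isFP_iff X₀).1 h₀ I D).2 (coequalizer.π a b ≫ f)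
    obtain ⟨j, m, hm⟩ := exists_stage_eq_of_isQC h₁ D i (a ≫ x) (b ≫ x) (by simp only [Category.assoc, hx]; rw [← Category.assoc, coequalizer.condition, Category.assoc])
    refine ⟨j, coequalizer.desc (x ≫ D.map m) (by simpa using hm), coequalizer.hom_ext ?_⟩
    simp [hx]

theorem isFP_of_retract {X Y : Sh J} (i : X ⟶ Y) (p : Y ⟶ X) (h : i ≫ p = 𝟙 X) (hY : IsFP Y) : IsFP X := by
  rw [isFP_iff]
  intro I _ _ D
  constructor
  · intro k x y hxy
    obtain ⟨j, m, hm⟩ := ((isFP_iff Y).1 hY I D).1 k (p ≫ x) (p ≫ y) (by simp [hxy])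
    exact ⟨j, m, by simpa [reassoc_of% h] using congrArg (i ≫ ·) hm⟩
  · intro f
    obtain ⟨k, x, hx⟩ := ((isFP_iff Y).1 hY I D).2 (p ≫ f)
    exact ⟨k, i ≫ x, by simp [hx, reassoc_of% h]⟩

end Groth.Agent.ToposFinLib
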