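import Groth.Agent.ToposFinLib.Coprod

/-!
Finiteness conditions for sheaves on a site all of whose objects are quasi-compact.
-/

set_option autoImplicit false
set_option linter.style.haveILetI false
set_option backward.defeqAttrib.useBackward true
set_option backward.isDefEq.respectTransparency false

universe u

open CategoryTheory CategoryTheory.Limits Opposite ToposFin

namespace Groth.Agent.ToposFinLib

open SheafTopos SheafTopos.InverseImage SheafTopos.SheafifiedCofan

variable {C : Type u} [SmallCategory C] {J : GrothendieckTopology C}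

/-- Sheafified representables generate. -/
theorem exists_rep_cover (X : Sh J) :
    ∃ (ι : Type u) (a : ι → C) (π : ∀ i, (rep J).obj (a i) ⟶ X), SGA4.IsEpiFamily π :=
  ⟨Sec X, fun p => p.1, fun p => (ev J p.1 X).symm p.2, isEpiFamily_sections X⟩

theorem isQC_equalizer_congr {X Z : Sh J} {a a' b b' : Z ⟶ X} (ha : a = a') (hb : b = b')
    (h : IsQC (equalizer a' b')) : IsQC (equalizer a b) := by
  subst ha hb
  exact h

theorem isQCSite_iff (X : C) : IsQCSite J X ↔ IsQC ((rep J).obj X) := by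
  classical
  constructor
  · intro hX
    rw [isQC_iff]
    intro ι F π hπ
    obtain ⟨S, hS, hSx⟩ := locally_surjective_of_isEpiFamily π hπ (op X) (ev J X _ (𝟙 _))
    obtain ⟨n, V, g, hg, hgJ⟩ := hX S hS
    choose i t ht using fun k => hSx (hg k)
    let g' : ∀ k : ULift.{u} (Fin n), V k.down ⟶ X := fun k => g k.down
    have hg' : Sieve.ofArrows (fun k : ULift.{u} (Fin n) => V k.down) g' ∈ J X := by
      refine J.superset_covering (fun W m hm => ?_) hgJ
      obtain ⟨k, a, rfl⟩ := (Sieve.mem_ofArrows_iff V g m).1 hm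
      exact (Sieve.mem_ofArrows_iff _ g' _).2 ⟨⟨k⟩, a, rfl⟩
    refine ⟨Finset.univ.image i, isEpiFamily_of_factor (isEpiFamily_of_mem hg') fun k => ?_⟩
    refine ⟨⟨i k.down, Finset.mem_image.2 ⟨k.down, Finset.mem_univ _, rfl⟩⟩, (ev J _ _).symm (t k.down), ?_⟩
    apply (ev J _ _).injective
    rw [ev_comp, Equiv.apply_symm_apply, ht]
    exact (ev_map _ (𝟙 _)).symm.trans (congrArg _ (Category.comp_id _))
  · intro hX S hS
    obtain ⟨t, ht⟩ := exists_finite_subcover hX _ (isEpiFamily_covering hS)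
    refine ⟨t.card, fun k => (t.equivFin.symm k).1.1, fun k => (t.equivFin.symm k).1.2.1,
      fun k => (t.equivFin.symm k).1.2.2, ?_⟩
    refine J.superset_covering (fun W m hm => ?_) (mem_of_isEpiFamily (s := fun p : t => p.1.2.1) ht)
    obtain ⟨p, a, rfl⟩ := (Sieve.mem_ofArrows_iff _ _ m).1 hm
    refine Sieve.downward_closed _ ?_ a
    have hp := Sieve.ofArrows_mk (fun k => (t.equivFin.symm k).1.1) (fun k => (t.equivFin.symm k).1.2.1)
      (t.equivFin p)
    rwa [Equiv.symm_apply_apply] at hp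

section

variable [HasPullbacks C] (hC : ∀ X : C, IsQCSite J X)

include hC

theorem isQC_rep (X : C) : IsQC ((rep J).obj X) := (isQCSite_iff X).1 (hC X)

/-- Maps of sheafified representables come from the site on a finite cover. -/
theorem exists_rep_lift {A X : C} (s : (rep J).obj A ⟶ (rep J).obj X) :
    ∃ (κ : Type u) (_ : Finite κ) (V : κ → C) (g : ∀ k, V k ⟶ A) (m : ∀ k, V k ⟶ X),
      SGA4.IsEpiFamily (fun k => (rep J).map (g k)) ∧ ∀ k, (rep J).map (g k) ≫ s = (rep J).map (m k) := by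
  obtain ⟨S, hS, hSx⟩ := exists_local_lift s
  obtain ⟨t, ht⟩ := exists_finite_subcover (isQC_rep hC A) _ (isEpiFamily_covering hS)
  choose m hm using fun p : t => hSx p.1.2.2
  exact ⟨t, inferInstance, fun p => p.1.1, fun p => p.1.2.1, m, ht, fun p => (hm p).symm⟩

theorem isQC_pullback_rep {A B X : C} (s : (rep J).obj A ⟶ (rep J).obj X) (r : (rep J).obj B ⟶ (rep J).obj X) :
    IsQC (pullback r s) := by
  obtain ⟨κ, _, V, g, m, hg, hm⟩ := exists_rep_lift hC s
  refine isQC_pullback_of_cover r s _ hg fun k => ?_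
  obtain ⟨κ', _, V', g', m', hg', hm'⟩ := exists_rep_lift hC r
  refine isQC_of_iso (pullbackSymmetry _ r) (isQC_pullback_of_cover ((rep J).map (g k) ≫ s) r _ hg' fun l => ?_)
  have sq := (IsPullback.of_hasPullback (m k) (m' l)).map (rep J)
  rw [← hm, ← hm'] at sq
  exact isQC_of_iso sq.isoPullback (isQC_rep hC _)

theorem isCoherent_rep (X : C) : IsCoherent ((rep J).obj X) :=
  ⟨isQC_rep hC X, isQS_of_generators _ exists_rep_cover fun _ s =>
    isQCHom_of_generators _ (isQC_rep hC) exists_rep_cover s fun _ r => isQC_pullback_rep hC r s⟩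

theorem isQSHom_rep_map {A X : C} (k : A ⟶ X) : IsQSHom ((rep J).map k) := by
  rw [isQSHom_iff]
  intro W a b hW hab
  obtain ⟨ι, c, π, hπ⟩ := exists_rep_cover W
  obtain ⟨t, ht⟩ := exists_finite_subcover hW π hπ
  refine isQC_equalizer_of_cover a b (fun i : t => π i) ht fun i => ?_
  obtain ⟨κ, _, V, g, m, hg, hm⟩ := exists_rep_lift hC (π i.1 ≫ a)
  refine isQC_equalizer_of_cover _ _ _ hg fun l => isQC_equalizer_congr (hm l) rfl ?_
  obtain ⟨κ', _, V', g', m', hg', hm'⟩ := exists_rep_lift hC ((rep J).map (g l) ≫ π i.1 ≫ b)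
  refine isQC_equalizer_of_cover _ _ _ hg' fun l' =>
    isQC_equalizer_congr ((rep J).map_comp _ _).symm (hm' l') ?_
  obtain ⟨R, hR, hRx⟩ := exists_local_eq ((g' l' ≫ m l) ≫ k) (m' l' ≫ k) (by
    rw [(rep J).map_comp, (rep J).map_comp _ k, (rep J).map_comp, ← hm l, ← hm' l']
    simp only [Category.assoc, hab])
  obtain ⟨u, hu⟩ := exists_finite_subcover (isQC_rep hC (V' l')) _ (isEpiFamily_covering hR)
  refine isQC_equalizer_of_cover _ _ _ hu fun q =>
    isQC_equalizer_congr ((rep J).map_comp _ _).symm ((rep J).map_comp _ _).symm ?_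
  have e : (q.1.2.1 ≫ g' l' ≫ m l) ≫ k = (q.1.2.1 ≫ m' l') ≫ k := by
    simpa only [Category.assoc] using hRx q.1.2.2
  have sq := (IsPullback.of_hasPullback (pullback.diagonal k) (pullback.lift _ _ e)).map (rep J)
  let P := pullback (pullback.diagonal k) (pullback.lift _ _ e)
  let s : P ⟶ q.1.1 := pullback.snd _ _
  have h1 : s ≫ q.1.2.1 ≫ g' l' ≫ m l = pullback.fst (pullback.diagonal k) (pullback.lift _ _ e) := by
    have := congrArg (· ≫ pullback.fst k k) (pullback.condition (f := pullback.diagonal k) (g := pullback.lift _ _ e))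
    simpa [s] using this.symm
  have h2 : s ≫ q.1.2.1 ≫ m' l' = pullback.fst (pullback.diagonal k) (pullback.lift _ _ e) := by
    have := congrArg (· ≫ pullback.snd k k) (pullback.condition (f := pullback.diagonal k) (g := pullback.lift _ _ e))
    simpa [s] using this.symm
  let l₀ : (rep J).obj P ⟶ equalizer ((rep J).map (q.1.2.1 ≫ g' l' ≫ m l)) ((rep J).map (q.1.2.1 ≫ m' l')) :=
    equalizer.lift ((rep J).map s) (by rw [← (rep J).map_comp, ← (rep J).map_comp, h1, h2])
  let ι₀ := equalizer.ι ((rep J).map (q.1.2.1 ≫ g' l' ≫ m l)) ((rep J).map (q.1.2.1 ≫ m' l'))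
  haveI : Epi l₀ := by
    refine @SplitEpi.epi _ _ _ _ l₀ ⟨sq.lift (ι₀ ≫ (rep J).map (q.1.2.1 ≫ g' l' ≫ m l)) ι₀ ?_, ?_⟩
    · refine ((IsPullback.of_hasPullback k k).map (rep J)).hom_ext ?_ ?_
      · simp only [Category.assoc, ← (rep J).map_comp, pullback.diagonal_fst, pullback.lift_fst, Category.comp_id]
      · simp only [Category.assoc, ← (rep J).map_comp, pullback.diagonal_snd, pullback.lift_snd, Category.comp_id]
        exact equalizer.condition _ _
    · apply equalizer.hom_ext
      simp [l₀, ι₀, s]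
  exact isQC_of_epi l₀ (isQC_rep hC P)

theorem isQSHom_rep {A X : C} (s : (rep J).obj A ⟶ (rep J).obj X) : IsQSHom s := by
  obtain ⟨κ, _, V, g, m, hg, hm⟩ := exists_rep_lift hC s
  refine isQSHom_of_source_cover s _ (fun k => isQCHom_of_isQS (isCoherent_rep hC A).2 (isQC_rep hC _) _)
    (fun k => hm k ▸ isQSHom_rep_map hC (m k)) (exists_lift_of_generators ?_ _ hg)
  intro Z
  obtain ⟨ι, a, π, hπ⟩ := exists_rep_cover Z
  exact ⟨ι, fun i => (rep J).obj (a i), π, fun i => isQC_rep hC _, (epi_desc_iff π).2 hπ⟩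

theorem hasQCGenerators : HasQCGenerators J := fun Z => by
  obtain ⟨ι, a, π, hπ⟩ := exists_rep_cover Z
  exact ⟨ι, fun i => (rep J).obj (a i), π, fun i => isQC_rep hC _, (epi_desc_iff π).2 hπ⟩

theorem isQSHom_to_rep {X : C} {G : Sh J} (g : G ⟶ (rep J).obj X) (hG : IsQS G) : IsQSHom g := by
  obtain ⟨ι, a, π, hπ⟩ := exists_rep_cover G
  refine isQSHom_of_products (hasQCGenerators hC) g π hπ (fun i => isQC_rep hC _) (fun i j => ?_) hG
  exact isQS_of_isQSHom _ (isQSHom_baseChange (isQSHom_rep hC (π i ≫ g)) (IsPullback.of_hasPullback _ _))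
    (isCoherent_rep hC (a j)).2

theorem isCoherent_pullback_over_rep {G H F : Sh J} (a : G ⟶ F) (b : H ⟶ F) (hG : IsCoherent G)
    (hH : IsCoherent H) (hF : IsCoherent F) {X : C} (w : F ⟶ (rep J).obj X) : IsCoherent (pullback a b) :=
  ⟨hF.2 _ _ a b hG.1 hH.1, isQS_of_isQSHom (pullback.fst a b)
    (isQSHom_baseChange (isQSHom_of_comp b w (isQSHom_to_rep hC (b ≫ w) hH.2))
      (IsPullback.of_hasPullback a b).flip) hG.2⟩

end

end Groth.Agent.ToposFinLib
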