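import Groth.Agent.SheafTopos.SheafifiedCofan
import Groth.Agent.SheafTopos.Canonical
import Groth.Prelude.Def_ToposFin2
import Mathlib.CategoryTheory.Adhesive.Basic

/-!
Quasi-compact and quasi-separated objects and morphisms in a topos of sheaves of sets.
-/

set_option autoImplicit false
set_option linter.style.haveILetI false
set_option backward.defeqAttrib.useBackward true
set_option backward.isDefEq.respectTransparency false

universe u

open CategoryTheory CategoryTheory.Limits Opposite ToposFin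

namespace Groth.Agent.ToposFinLib

open SheafTopos SheafTopos.InverseImage

variable {C : Type u} [SmallCategory C] {J : GrothendieckTopology C}

/-! ### Jointly epimorphic families -/

theorem epi_desc_iff {ι : Type*} {X : Sh J} {F : ι → Sh J} (π : ∀ i, F i ⟶ X) [HasCoproduct F] :
    Epi (Sigma.desc π) ↔ SGA4.IsEpiFamily π := by
  constructor
  · intro h Z a b hab
    rw [← cancel_epi (Sigma.desc π)]
    exact Sigma.hom_ext _ _ fun i => by simpa using hab i
  · intro h
    exact ⟨fun a b hab => h _ a b fun i => by simpa using congrArg (Sigma.ι F i ≫ ·) hab⟩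

theorem isEpiFamily_singleton {X Y : Sh J} (f : Y ⟶ X) [Epi f] :
    SGA4.IsEpiFamily fun _ : PUnit.{u + 1} => f :=
  fun _ _ _ h => (cancel_epi f).1 (h ⟨⟩)

/-- A family through which a jointly epimorphic family factors is jointly epimorphic. -/
theorem isEpiFamily_of_factor {ι ι' : Type*} {X : Sh J} {F : ι → Sh J} {G : ι' → Sh J} {π : ∀ i, F i ⟶ X}
    {π' : ∀ j, G j ⟶ X} (h : SGA4.IsEpiFamily π) (hf : ∀ i, ∃ (j : ι') (a : F i ⟶ G j), a ≫ π' j = π i) :
    SGA4.IsEpiFamily π' := by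
  refine fun Z a b hab => h Z a b fun i => ?_
  obtain ⟨j, c, hc⟩ := hf i
  rw [← hc, Category.assoc, Category.assoc, hab]

theorem isEpiFamily_comp {ι : Type*} {κ : ι → Type*} {X : Sh J} {F : ι → Sh J} {G : ∀ i, κ i → Sh J}
    {π : ∀ i, F i ⟶ X} {ρ : ∀ i k, G i k ⟶ F i} (h : SGA4.IsEpiFamily π)
    (h' : ∀ i, SGA4.IsEpiFamily (ρ i)) :
    SGA4.IsEpiFamily fun p : (Σ i, κ i) => ρ p.1 p.2 ≫ π p.1 := by
  refine fun Z a b hab => h Z a b fun i => h' i Z _ _ fun k => ?_
  simpa using hab ⟨i, k⟩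

/-- Jointly epimorphic families are stable under base change. -/
theorem isEpiFamily_baseChange {ι : Type*} {X Y : Sh J} {F P : ι → Sh J} {π : ∀ i, F i ⟶ X}
    (h : SGA4.IsEpiFamily π) {g : Y ⟶ X} {a : ∀ i, P i ⟶ F i} {b : ∀ i, P i ⟶ Y}
    (sq : ∀ i, IsPullback (a i) (b i) (π i) g) : SGA4.IsEpiFamily b := by
  refine Canonical.isEpiFamily_of_locally b fun V s => ?_
  obtain ⟨S, hS, hSx⟩ := locally_surjective_of_isEpiFamily π h V (g.hom.app V s)
  refine ⟨S, hS, fun W k hk => ?_⟩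
  obtain ⟨i, t, ht⟩ := hSx hk
  obtain ⟨z, -, hz⟩ := Types.exists_of_isPullback
    (((sq i).map (sheafToPresheaf J (Type u))).map ((evaluation Cᵒᵖ (Type u)).obj (op W))) t (Y.obj.map k.op s)
    (ht.trans (ConcreteCategory.congr_hom (g.hom.naturality k.op) s).symm)
  exact ⟨i, z, hz⟩

theorem isEpiFamily_pullback_snd {ι : Type*} {X Y : Sh J} {F : ι → Sh J} {π : ∀ i, F i ⟶ X}
    (h : SGA4.IsEpiFamily π) (g : Y ⟶ X) : SGA4.IsEpiFamily fun i => pullback.snd (π i) g :=
  isEpiFamily_baseChange h fun i => IsPullback.of_hasPullback (π i) g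

theorem isEpiFamily_pullback_fst {ι : Type*} {X Y : Sh J} {F : ι → Sh J} {π : ∀ i, F i ⟶ X}
    (h : SGA4.IsEpiFamily π) (g : Y ⟶ X) : SGA4.IsEpiFamily fun i => pullback.fst g (π i) :=
  isEpiFamily_baseChange h fun i => (IsPullback.of_hasPullback g (π i)).flip

theorem isEpiFamily_of_isColimit {ι : Type*} {F : ι → Sh J} {c : Cofan F} (hc : IsColimit c) :
    SGA4.IsEpiFamily fun i => c.inj i :=
  fun _ _ _ h => Cofan.IsColimit.hom_ext hc _ _ h

theorem isEpiFamily_sigma {ι : Type*} (F : ι → Sh J) [HasCoproduct F] :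
    SGA4.IsEpiFamily fun i => Sigma.ι F i :=
  fun _ _ _ h => Sigma.hom_ext _ _ h

/-- The defining property of a quasi-compact object. -/
theorem isQC_iff (X : Sh J) : IsQC X ↔ ∀ (ι : Type u) (F : ι → Sh J) (π : ∀ i, F i ⟶ X),
    SGA4.IsEpiFamily π → ∃ s : Finset ι, SGA4.IsEpiFamily fun i : s => π i := by
  simp only [IsQC, epi_desc_iff]

theorem exists_finite_subcover {X : Sh J} (hX : IsQC X) {ι : Type u} {F : ι → Sh J} (π : ∀ i, F i ⟶ X)
    (h : SGA4.IsEpiFamily π) : ∃ s : Finset ι, SGA4.IsEpiFamily fun i : s => π i :=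
  (isQC_iff X).1 hX ι F π h

/-- An object covered by finitely many quasi-compact objects is quasi-compact. -/
theorem isQC_of_finite_cover {X : Sh J} {κ : Type*} [Finite κ] {F : κ → Sh J} (π : ∀ k, F k ⟶ X)
    (h : SGA4.IsEpiFamily π) (hF : ∀ k, IsQC (F k)) : IsQC X := by
  classical
  haveI := Fintype.ofFinite κ
  rw [isQC_iff]
  intro ι G ρ hρ
  choose t ht using fun k => exists_finite_subcover (hF k) _ (isEpiFamily_pullback_snd hρ (π k))
  refine ⟨Finset.univ.biUnion t, isEpiFamily_of_factor (isEpiFamily_comp h ht) fun p => ?_⟩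
  exact ⟨⟨p.2.1, Finset.mem_biUnion.2 ⟨p.1, Finset.mem_univ _, p.2.2⟩⟩, pullback.fst _ _, pullback.condition⟩

theorem isQC_of_epi {X Y : Sh J} (f : Y ⟶ X) [Epi f] (hY : IsQC Y) : IsQC X :=
  isQC_of_finite_cover (fun _ : PUnit.{u + 1} => f) (isEpiFamily_singleton f) fun _ => hY

theorem isQC_of_iso {X Y : Sh J} (e : Y ≅ X) (hY : IsQC Y) : IsQC X := isQC_of_epi e.hom hY

/-! ### Quasi-compact morphisms -/

theorem isQC_of_isPullback {X Y P Y' : Sh J} {f : X ⟶ Y} (hf : IsQCHom f) {a : P ⟶ X} {b : P ⟶ Y'}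
    {g : Y' ⟶ Y} (sq : IsPullback a b f g) (h : IsQC Y') : IsQC P :=
  isQC_of_iso sq.isoPullback.symm (hf Y' g h)

theorem isQCHom_comp {X Y Z : Sh J} {f : X ⟶ Y} {g : Y ⟶ Z} (hf : IsQCHom f) (hg : IsQCHom g) :
    IsQCHom (f ≫ g) := by
  intro Y' s hs
  have sq := IsPullback.of_hasPullback g s
  have sq' := IsPullback.of_hasPullback f (pullback.fst g s)
  exact isQC_of_iso (sq'.paste_vert sq).isoPullback (hf _ _ (hg Y' s hs))

theorem isQCHom_baseChange {X Y X' Y' : Sh J} {f : X ⟶ Y} (hf : IsQCHom f) {a : X' ⟶ X} {f' : X' ⟶ Y'}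
    {g : Y' ⟶ Y} (sq : IsPullback a f' f g) : IsQCHom f' := fun _ s hs =>
  isQC_of_isPullback hf ((IsPullback.of_hasPullback f' s).paste_horiz sq) hs

theorem isQCHom_of_isIso {X Y : Sh J} (f : X ⟶ Y) [IsIso f] : IsQCHom f := fun Y' _ h =>
  isQC_of_iso (asIso (pullback.snd f _)).symm h

/-- Every map from a quasi-compact object to a quasi-separated one is quasi-compact. -/
theorem isQCHom_of_isQS {X Y : Sh J} (hX : IsQS X) (hY : IsQC Y) (a : Y ⟶ X) : IsQCHom a :=
  fun Z b hZ => hX Y Z a b hY hZ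

theorem isQS_iff {X : Sh J} : IsQS X ↔ ∀ (Y : Sh J) (a : Y ⟶ X), IsQC Y → IsQCHom a :=
  ⟨fun h _ a hY => isQCHom_of_isQS h hY a, fun h Y Z a b hY hZ => h Y a hY Z b hZ⟩

/-- Quasi-compactness of a morphism is checked on a finite quasi-compact cover of the test object. -/
theorem isQC_pullback_of_cover {X Y K : Sh J} (f : X ⟶ Y) (s : K ⟶ Y) {κ : Type*} [Finite κ] {G : κ → Sh J}
    (g : ∀ k, G k ⟶ K) (hg : SGA4.IsEpiFamily g) (h : ∀ k, IsQC (pullback f (g k ≫ s))) :
    IsQC (pullback f s) :=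
  isQC_of_finite_cover
    (fun k => pullback.lift (pullback.fst f (g k ≫ s)) (pullback.snd f (g k ≫ s) ≫ g k)
      (by rw [pullback.condition, Category.assoc]))
    (isEpiFamily_baseChange hg fun k => (IsPullback.of_right
      (h₁₁ := pullback.lift (pullback.fst f (g k ≫ s)) (pullback.snd f (g k ≫ s) ≫ g k)
        (by rw [pullback.condition, Category.assoc]))
      (h₁₂ := pullback.fst f s)
      (by simpa using IsPullback.of_hasPullback f (g k ≫ s)) (by simp)
      (IsPullback.of_hasPullback f s)).flip) h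

/-- A morphism quasi-compact on each piece of a finite cover of its source is quasi-compact. -/
theorem isQCHom_of_source_cover {Y Z : Sh J} (g : Y ⟶ Z) {κ : Type*} [Finite κ] {X : κ → Sh J}
    (f : ∀ k, X k ⟶ Y) (hf : SGA4.IsEpiFamily f) (h : ∀ k, IsQCHom (f k ≫ g)) : IsQCHom g := by
  intro Z' s hs
  refine isQC_of_finite_cover
    (fun k => pullback.lift (pullback.fst (f k ≫ g) s ≫ f k) (pullback.snd (f k ≫ g) s)
      (by rw [Category.assoc, pullback.condition]))
    (isEpiFamily_baseChange hf fun k => (IsPullback.of_right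
      (h₁₂ := pullback.snd g s) (h₁₁ := pullback.lift (pullback.fst (f k ≫ g) s ≫ f k) (pullback.snd (f k ≫ g) s)
        (by rw [Category.assoc, pullback.condition]))
      (by simpa using (IsPullback.of_hasPullback (f k ≫ g) s).flip) (by simp)
      (IsPullback.of_hasPullback g s).flip).flip) fun k => h k Z' s hs

/-- Quasi-compactness of a morphism can be checked on quasi-compact generators. -/
theorem isQCHom_of_generators {α : Type*} (G : α → Sh J) (hG : ∀ a, IsQC (G a))
    (hgen : ∀ X : Sh J, ∃ (ι : Type u) (a : ι → α) (π : ∀ i, G (a i) ⟶ X), SGA4.IsEpiFamily π)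
    {X Y : Sh J} (f : X ⟶ Y) (h : ∀ (a : α) (s : G a ⟶ Y), IsQC (pullback f s)) : IsQCHom f := by
  intro K s hK
  obtain ⟨ι, a, π, hπ⟩ := hgen K
  obtain ⟨t, ht⟩ := exists_finite_subcover hK π hπ
  exact isQC_pullback_of_cover f s (fun i : t => π i) ht fun i => h _ _

theorem exists_qc_cover (hE : HasQCGenerators J) (X : Sh J) :
    ∃ (ι : Type u) (F : ι → Sh J) (π : ∀ i, F i ⟶ X), (∀ i, IsQC (F i)) ∧ SGA4.IsEpiFamily π := by
  obtain ⟨ι, F, π, h₁, h₂⟩ := hE X
  exact ⟨ι, F, π, h₁, (epi_desc_iff π).1 h₂⟩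

/-- A cover of a quasi-compact object refines to a finite quasi-compact one. -/
theorem exists_finite_qc_refinement (hE : HasQCGenerators J) {K : Sh J} (hK : IsQC K) {ι : Type u}
    {F : ι → Sh J} (π : ∀ i, F i ⟶ K) (h : SGA4.IsEpiFamily π) :
    ∃ (κ : Type u) (_ : Finite κ) (G : κ → Sh J) (ρ : ∀ k, G k ⟶ K) (i : κ → ι) (l : ∀ k, G k ⟶ F (i k)),
      (∀ k, IsQC (G k)) ∧ SGA4.IsEpiFamily ρ ∧ ∀ k, l k ≫ π (i k) = ρ k := by
  choose κ' G' ρ' hqc hρ' using fun i => exists_qc_cover hE (F i)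
  obtain ⟨t, ht⟩ := exists_finite_subcover hK _ (isEpiFamily_comp h hρ')
  exact ⟨t, inferInstance, fun p => G' p.1.1 p.1.2, fun p => ρ' p.1.1 p.1.2 ≫ π p.1.1, fun p => p.1.1,
    fun p => ρ' p.1.1 p.1.2, fun p => hqc _ _, ht, fun p => rfl⟩

/-- Quasi-compactness of a morphism is local on the target. -/
theorem isQCHom_of_local_target (hE : HasQCGenerators J) {X Y : Sh J} (f : X ⟶ Y) {ι : Type u} {Yi : ι → Sh J}
    (g : ∀ i, Yi i ⟶ Y) (hg : SGA4.IsEpiFamily g) (h : ∀ i, IsQCHom (pullback.snd f (g i))) : IsQCHom f := by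
  intro K s hK
  obtain ⟨κ, _, G, ρ, i, l, hqc, hρ, hl⟩ := exists_finite_qc_refinement hE hK _ (isEpiFamily_pullback_snd hg s)
  refine isQC_pullback_of_cover f s ρ hρ fun k => ?_
  have e : ρ k ≫ s = (l k ≫ pullback.fst (g (i k)) s) ≫ g (i k) := by
    rw [← hl k, Category.assoc, Category.assoc, pullback.condition]
  have sq := (IsPullback.of_hasPullback (pullback.snd f (g (i k))) (l k ≫ pullback.fst (g (i k)) s)).paste_horiz
    (IsPullback.of_hasPullback f (g (i k)))
  rw [← e] at sq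
  exact isQC_of_iso sq.isoPullback (h (i k) (G k) _ (hqc k))

/-! ### Quasi-separated morphisms -/

/-- The equalizer of two maps with equal composite to the base is a pullback of the diagonal. -/
theorem isPullback_diagonal_equalizer {X Y Z : Sh J} (f : X ⟶ Y) (a b : Z ⟶ X) (h : a ≫ f = b ≫ f) :
    IsPullback (equalizer.ι a b ≫ a) (equalizer.ι a b) (pullback.diagonal f) (pullback.lift a b h) := by
  refine IsPullback.of_isLimit' ⟨?_⟩ ?_
  · apply pullback.hom_ext
    · simp
    · simpa using equalizer.condition a b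
  · refine PullbackCone.IsLimit.mk _ (fun s => equalizer.lift s.snd ?_) (fun s => ?_) (fun s => ?_)
      (fun s m h₁ h₂ => ?_)
    · have e1 := congrArg (· ≫ pullback.fst f f) s.condition
      have e2 := congrArg (· ≫ pullback.snd f f) s.condition
      simp only [Category.assoc, pullback.diagonal_fst, pullback.diagonal_snd, pullback.lift_fst,
        pullback.lift_snd, Category.comp_id] at e1 e2
      exact e1.symm.trans e2
    · have e1 := congrArg (· ≫ pullback.fst f f) s.condition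
      simp only [Category.assoc, pullback.diagonal_fst, pullback.lift_fst, Category.comp_id] at e1
      rw [equalizer.lift_ι_assoc]
      exact e1.symm
    · exact equalizer.lift_ι _ _
    · apply equalizer.hom_ext
      rw [equalizer.lift_ι]
      exact h₂

/-- A morphism is quasi-separated iff the equalizers of pairs over it on quasi-compact objects are
quasi-compact. -/
theorem isQSHom_iff {X Y : Sh J} (f : X ⟶ Y) :
    IsQSHom f ↔ ∀ (Z : Sh J) (a b : Z ⟶ X), IsQC Z → a ≫ f = b ≫ f → IsQC (equalizer a b) := by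
  refine ⟨fun h Z a b hZ hab => isQC_of_isPullback h (isPullback_diagonal_equalizer f a b hab) hZ,
    fun h Z s hZ => ?_⟩
  have hab : (s ≫ pullback.fst f f) ≫ f = (s ≫ pullback.snd f f) ≫ f := by
    rw [Category.assoc, Category.assoc, pullback.condition]
  have sq := isPullback_diagonal_equalizer f _ _ hab
  rw [show pullback.lift _ _ hab = s from pullback.hom_ext (by simp) (by simp)] at sq
  exact isQC_of_iso sq.isoPullback (h Z _ _ hZ hab)

/-- The square computing an equalizer after restriction. -/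
theorem isPullback_equalizer_restrict {X Z W : Sh J} (a b : Z ⟶ X) (k : W ⟶ Z) :
    IsPullback (equalizer.lift (equalizer.ι (k ≫ a) (k ≫ b) ≫ k)
        (by simpa using equalizer.condition (k ≫ a) (k ≫ b)) : equalizer (k ≫ a) (k ≫ b) ⟶ equalizer a b)
      (equalizer.ι (k ≫ a) (k ≫ b)) (equalizer.ι a b) k := by
  refine IsPullback.of_isLimit' ⟨by simp⟩ ?_
  refine PullbackCone.IsLimit.mk _ (fun s => equalizer.lift s.snd ?_) (fun s => ?_) (fun s => ?_)
    (fun s m h₁ h₂ => ?_)
  · rw [← reassoc_of% s.condition, ← reassoc_of% s.condition, equalizer.condition]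
  · apply equalizer.hom_ext
    simp [s.condition]
  · exact equalizer.lift_ι _ _
  · apply equalizer.hom_ext
    rw [equalizer.lift_ι]
    exact h₂

theorem isQC_equalizer_of_cover {X Z : Sh J} (a b : Z ⟶ X) {κ : Type*} [Finite κ] {G : κ → Sh J}
    (g : ∀ k, G k ⟶ Z) (hg : SGA4.IsEpiFamily g) (h : ∀ k, IsQC (equalizer (g k ≫ a) (g k ≫ b))) :
    IsQC (equalizer a b) :=
  isQC_of_finite_cover _ (isEpiFamily_baseChange hg fun k => (isPullback_equalizer_restrict a b (g k)).flip) h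

theorem isQSHom_of_mono {X Y : Sh J} (u : X ⟶ Y) [Mono u] : IsQSHom u := by
  rw [isQSHom_iff]
  intro Z a b hZ hab
  obtain rfl := (cancel_mono u).1 hab
  exact isQC_of_iso (asIso (equalizer.ι a a)).symm hZ

theorem isQSHom_of_comp {X Y Z : Sh J} (f : X ⟶ Y) (g : Y ⟶ Z) (h : IsQSHom (f ≫ g)) : IsQSHom f := by
  rw [isQSHom_iff] at h ⊢
  exact fun W a b hW hab => h W a b hW (by rw [reassoc_of% hab])

theorem isQSHom_comp {X Y Z : Sh J} {f : X ⟶ Y} {g : Y ⟶ Z} (hf : IsQSHom f) (hg : IsQSHom g) :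
    IsQSHom (f ≫ g) := by
  rw [isQSHom_iff] at hf hg ⊢
  intro W a b hW hab
  let e := equalizer.ι (a ≫ f) (b ≫ f)
  have h1 : IsQC (equalizer (a ≫ f) (b ≫ f)) := hg W _ _ hW (by simpa using hab)
  have h2 : IsQC (equalizer (e ≫ a) (e ≫ b)) := hf _ _ _ h1 (by simpa [e] using equalizer.condition (a ≫ f) (b ≫ f))
  let k : equalizer a b ⟶ equalizer (a ≫ f) (b ≫ f) :=
    equalizer.lift (equalizer.ι a b) (by rw [equalizer.condition_assoc])
  let l : equalizer (e ≫ a) (e ≫ b) ⟶ equalizer a b :=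
    equalizer.lift (equalizer.ι (e ≫ a) (e ≫ b) ≫ e) (by simpa using equalizer.condition (e ≫ a) (e ≫ b))
  haveI : Epi l := by
    refine @SplitEpi.epi _ _ _ _ l ⟨equalizer.lift k ?_, ?_⟩
    · simpa [k, e] using equalizer.condition a b
    · apply equalizer.hom_ext
      simp [l, k, e]
  exact isQC_of_epi l h2

theorem isQSHom_baseChange {X Y X' Y' : Sh J} {f : X ⟶ Y} (hf : IsQSHom f) {a : X' ⟶ X} {f' : X' ⟶ Y'}
    {g : Y' ⟶ Y} (sq : IsPullback a f' f g) : IsQSHom f' := by
  rw [isQSHom_iff] at hf ⊢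
  intro Z p q hZ hpq
  have h := hf Z (p ≫ a) (q ≫ a) hZ (by simp only [Category.assoc, sq.w, reassoc_of% hpq])
  let l : equalizer (p ≫ a) (q ≫ a) ⟶ equalizer p q :=
    equalizer.lift (equalizer.ι _ _) (sq.hom_ext (by simpa using equalizer.condition (p ≫ a) (q ≫ a))
      (by simp only [Category.assoc, hpq]))
  haveI : Epi l := by
    refine @SplitEpi.epi _ _ _ _ l ⟨equalizer.lift (equalizer.ι p q) (by rw [equalizer.condition_assoc]), ?_⟩
    apply equalizer.hom_ext
    simp [l]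
  exact isQC_of_epi l h

/-- A factor of a quasi-compact composite over a quasi-separated morphism is quasi-compact. -/
theorem isQCHom_of_comp {X Y Z : Sh J} (f : X ⟶ Y) (g : Y ⟶ Z) (hg : IsQSHom g) (h : IsQCHom (f ≫ g)) :
    IsQCHom f := by
  intro K s hK
  let P := pullback (f ≫ g) (s ≫ g)
  have hP : IsQC P := h K _ hK
  have he := (isQSHom_iff g).1 hg P (pullback.fst _ _ ≫ f) (pullback.snd _ _ ≫ s) hP
    (by simp only [Category.assoc]; exact pullback.condition)
  let e := equalizer.ι (pullback.fst (f ≫ g) (s ≫ g) ≫ f) (pullback.snd (f ≫ g) (s ≫ g) ≫ s)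
  let l : equalizer (pullback.fst (f ≫ g) (s ≫ g) ≫ f) (pullback.snd (f ≫ g) (s ≫ g) ≫ s) ⟶ pullback f s :=
    pullback.lift (e ≫ pullback.fst _ _) (e ≫ pullback.snd _ _) (by simpa [e] using equalizer.condition _ _)
  haveI : Epi l := by
    refine @SplitEpi.epi _ _ _ _ l ⟨equalizer.lift (pullback.lift (pullback.fst f s) (pullback.snd f s)
      (by rw [pullback.condition_assoc])) (by simpa using pullback.condition (f := f) (g := s)), ?_⟩
    apply pullback.hom_ext <;> simp [l, e]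
  exact isQC_of_epi l he

/-- A quasi-separated morphism to a quasi-separated object has quasi-separated source. -/
theorem isQS_of_isQSHom {X Y : Sh J} (f : X ⟶ Y) (hf : IsQSHom f) (hY : IsQS Y) : IsQS X :=
  isQS_iff.2 fun _ a hW => isQCHom_of_comp a f hf (isQCHom_of_isQS hY hW (a ≫ f))

theorem isQS_of_mono {X Y : Sh J} (i : X ⟶ Y) [Mono i] (hY : IsQS Y) : IsQS X :=
  isQS_of_isQSHom i (isQSHom_of_mono i) hY

theorem isQS_of_iso {X Y : Sh J} (e : X ≅ Y) (hX : IsQS X) : IsQS Y := isQS_of_mono e.inv hX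

/-- A retract of a coherent object is coherent. -/
theorem isCoherent_of_retract {X Y : Sh J} (i : X ⟶ Y) (p : Y ⟶ X) (h : i ≫ p = 𝟙 X) (hY : IsCoherent Y) :
    IsCoherent X := by
  haveI : Mono i := mono_of_mono_fac h
  haveI : Epi p := epi_of_epi_fac h
  exact ⟨isQC_of_epi p hY.1, isQS_of_mono i hY.2⟩

/-- An object with a quasi-separated cover by quasi-compact morphisms is quasi-separated. -/
theorem isQS_of_cover {Y : Sh J} {ι : Type u} {Yi : ι → Sh J} (g : ∀ i, Yi i ⟶ Y) (hg : SGA4.IsEpiFamily g)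
    (hqs : ∀ i, IsQS (Yi i)) (hqc : ∀ i, IsQCHom (g i)) : IsQS Y := by
  intro A B a b hA hB
  obtain ⟨t, ht⟩ := exists_finite_subcover hA _ (isEpiFamily_pullback_snd hg a)
  haveI : IsIso (𝟙 A) := inferInstance
  let e := pullbackSymmetry b a
  refine isQC_of_iso e ?_
  refine isQC_pullback_of_cover b a (fun i : t => pullback.snd (g i) a) ht fun i => ?_
  have sq := (IsPullback.of_hasPullback (pullback.snd b (g i.1)) (pullback.fst (g i.1) a)).paste_horiz
    (IsPullback.of_hasPullback b (g i.1))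
  rw [pullback.condition (f := g i.1) (g := a)] at sq
  exact isQC_of_iso sq.isoPullback (hqs i _ _ _ _ (isQC_of_iso (pullbackSymmetry (g i.1) b) (hqc i B b hB))
    (hqc i A a hA))

/-- Quasi-separatedness tested on a cover by coherent objects. -/
theorem isQS_of_coherent_cover (hE : HasQCGenerators J) {Y : Sh J} {ι : Type u} {Yi : ι → Sh J}
    (g : ∀ i, Yi i ⟶ Y) (hg : SGA4.IsEpiFamily g) (hY : ∀ i, IsCoherent (Yi i))
    (h : ∀ i j, IsQC (pullback (g i) (g j))) : IsQS Y :=
  isQS_of_cover g hg (fun i => (hY i).2) fun i =>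
    isQCHom_of_local_target hE (g i) g hg fun j => isQCHom_of_isQS (hY j).2 (h i j) _

theorem isQS_of_generators {α : Type*} (G : α → Sh J)
    (hgen : ∀ X : Sh J, ∃ (ι : Type u) (a : ι → α) (π : ∀ i, G (a i) ⟶ X), SGA4.IsEpiFamily π)
    {Y : Sh J} (h : ∀ (a : α) (s : G a ⟶ Y), IsQCHom s) : IsQS Y := by
  rw [isQS_iff]
  intro W s hW
  obtain ⟨ι, a, π, hπ⟩ := hgen W
  obtain ⟨t, ht⟩ := exists_finite_subcover hW π hπ
  exact isQCHom_of_source_cover s (fun i : t => π i) ht fun i => h _ _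

/-- Quasi-separatedness of a morphism from a cover of its source by quasi-compact morphisms. -/
theorem isQSHom_of_source_cover {Y Z : Sh J} (g : Y ⟶ Z) {ι : Type u} {X : ι → Sh J} (f : ∀ i, X i ⟶ Y)
    (hqc : ∀ i, IsQCHom (f i)) (hqs : ∀ i, IsQSHom (f i ≫ g))
    (hlift : ∀ (W : Sh J) (a : W ⟶ Y), IsQC W → ∃ (κ : Type u) (_ : Finite κ) (G : κ → Sh J) (ρ : ∀ k, G k ⟶ W)
      (i : κ → ι) (l : ∀ k, G k ⟶ X (i k)), (∀ k, IsQC (G k)) ∧ SGA4.IsEpiFamily ρ ∧ ∀ k, l k ≫ f (i k) = ρ k ≫ a) :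
    IsQSHom g := by
  rw [isQSHom_iff]
  intro W a b hW hab
  obtain ⟨κ, _, G, ρ, i, l, hG, hρ, hl⟩ := hlift W a hW
  refine isQC_equalizer_of_cover a b ρ hρ fun k => ?_
  have hQ : IsQC (pullback (f (i k)) (ρ k ≫ b)) := hqc _ _ _ (hG k)
  have he := (isQSHom_iff _).1 (hqs (i k)) _ (pullback.fst _ _) (pullback.snd (f (i k)) (ρ k ≫ b) ≫ l k) hQ (by
    rw [← Category.assoc, pullback.condition]
    simp only [Category.assoc, reassoc_of% (hl k), hab])
  let e := equalizer.ι (pullback.fst (f (i k)) (ρ k ≫ b)) (pullback.snd (f (i k)) (ρ k ≫ b) ≫ l k)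
  let m : equalizer (pullback.fst (f (i k)) (ρ k ≫ b)) (pullback.snd (f (i k)) (ρ k ≫ b) ≫ l k) ⟶
      equalizer (ρ k ≫ a) (ρ k ≫ b) :=
    equalizer.lift (e ≫ pullback.snd _ _) (by
      rw [Category.assoc, Category.assoc, ← pullback.condition, ← hl k]
      simpa [e] using congrArg (· ≫ f (i k))
        (equalizer.condition (pullback.fst (f (i k)) (ρ k ≫ b)) (pullback.snd (f (i k)) (ρ k ≫ b) ≫ l k)).symm)
  haveI : Epi m := by
    refine @SplitEpi.epi _ _ _ _ m ⟨equalizer.lift (pullback.lift (equalizer.ι _ _ ≫ l k) (equalizer.ι _ _)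
      (by rw [Category.assoc, hl k, equalizer.condition])) (by rw [pullback.lift_fst, pullback.lift_snd_assoc]), ?_⟩
    apply equalizer.hom_ext
    simp [m, e]
  exact isQC_of_epi m he

theorem exists_lift_of_generators (hE : HasQCGenerators J) {Y : Sh J} {ι : Type u} {X : ι → Sh J}
    (f : ∀ i, X i ⟶ Y) (hf : SGA4.IsEpiFamily f) (W : Sh J) (a : W ⟶ Y) (hW : IsQC W) :
    ∃ (κ : Type u) (_ : Finite κ) (G : κ → Sh J) (ρ : ∀ k, G k ⟶ W) (i : κ → ι) (l : ∀ k, G k ⟶ X (i k)),
      (∀ k, IsQC (G k)) ∧ SGA4.IsEpiFamily ρ ∧ ∀ k, l k ≫ f (i k) = ρ k ≫ a := by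
  obtain ⟨κ, h, G, ρ, i, l, hG, hρ, hl⟩ := exists_finite_qc_refinement hE hW _ (isEpiFamily_pullback_snd hf a)
  refine ⟨κ, h, G, ρ, i, fun k => l k ≫ pullback.fst _ _, hG, hρ, fun k => ?_⟩
  rw [Category.assoc, pullback.condition, reassoc_of% (hl k)]

/-- Quasi-separatedness of a morphism is local on the target. -/
theorem isQSHom_of_local_target (hE : HasQCGenerators J) {X Y : Sh J} (f : X ⟶ Y) {ι : Type u} {Yi : ι → Sh J}
    (g : ∀ i, Yi i ⟶ Y) (hg : SGA4.IsEpiFamily g) (h : ∀ i, IsQSHom (pullback.snd f (g i))) : IsQSHom f := by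
  rw [isQSHom_iff]
  intro W a b hW hab
  obtain ⟨κ, _, G, ρ, i, l, hG, hρ, hl⟩ := exists_lift_of_generators hE g hg W (a ≫ f) hW
  refine isQC_equalizer_of_cover a b ρ hρ fun k => ?_
  let a' : G k ⟶ pullback f (g (i k)) := pullback.lift (ρ k ≫ a) (l k) (by rw [Category.assoc, hl])
  let b' : G k ⟶ pullback f (g (i k)) := pullback.lift (ρ k ≫ b) (l k) (by rw [Category.assoc, ← hab, hl])
  have he := (isQSHom_iff _).1 (h (i k)) (G k) a' b' (hG k) (by simp [a', b'])
  let m : equalizer a' b' ⟶ equalizer (ρ k ≫ a) (ρ k ≫ b) :=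
    equalizer.lift (equalizer.ι a' b') (by
      simpa [a', b'] using congrArg (· ≫ pullback.fst f (g (i k))) (equalizer.condition a' b'))
  haveI : Epi m := by
    refine @SplitEpi.epi _ _ _ _ m ⟨equalizer.lift (equalizer.ι _ _) (pullback.hom_ext
      (by simpa [a', b'] using equalizer.condition (ρ k ≫ a) (ρ k ≫ b)) (by simp [a', b'])), ?_⟩
    apply equalizer.hom_ext
    simp [m]
  exact isQC_of_epi m he

/-- A morphism out of a quasi-separated object is quasi-separated if the products of its covering pieces over the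
base are. -/
theorem isQSHom_of_products (hE : HasQCGenerators J) {X Y : Sh J} (f : X ⟶ Y) {ι : Type u} {Xi : ι → Sh J}
    (g : ∀ i, Xi i ⟶ X) (hg : SGA4.IsEpiFamily g) (hqc : ∀ i, IsQC (Xi i))
    (hqs : ∀ i j, IsQS (pullback (g i ≫ f) (g j ≫ f))) (hX : IsQS X) : IsQSHom f := by
  rw [isQSHom_iff]
  intro W a b hW hab
  obtain ⟨κ, _, G, ρ, i, l, hG, hρ, hl⟩ := exists_lift_of_generators hE g hg W a hW
  refine isQC_equalizer_of_cover a b ρ hρ fun k => ?_
  obtain ⟨κ', _, G', ρ', j, l', hG', hρ', hl'⟩ := exists_lift_of_generators hE g hg (G k) (ρ k ≫ b) (hG k)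
  refine isQC_equalizer_of_cover _ _ ρ' hρ' fun m => ?_
  let P := pullback (g (i k)) (g (j m))
  let s : G' m ⟶ pullback (g (i k) ≫ f) (g (j m) ≫ f) := pullback.lift (ρ' m ≫ l k) (l' m) (by
    rw [Category.assoc, reassoc_of% (hl k), reassoc_of% (hl' m), hab])
  let p : P ⟶ pullback (g (i k) ≫ f) (g (j m) ≫ f) :=
    pullback.lift (pullback.fst _ _) (pullback.snd _ _) (by rw [pullback.condition_assoc])
  have he := hqs (i k) (j m) (G' m) P s p (hG' m) (hX _ _ _ _ (hqc _) (hqc _))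
  let n : pullback s p ⟶ equalizer (ρ' m ≫ ρ k ≫ a) (ρ' m ≫ ρ k ≫ b) :=
    equalizer.lift (pullback.fst s p) (by
      have e1 := congrArg (· ≫ pullback.fst _ _) (pullback.condition (f := s) (g := p))
      have e2 := congrArg (· ≫ pullback.snd _ _) (pullback.condition (f := s) (g := p))
      simp only [Category.assoc, s, p, pullback.lift_fst, pullback.lift_snd] at e1 e2
      have e : pullback.fst s p ≫ ρ' m ≫ l k ≫ g (i k) = pullback.fst s p ≫ l' m ≫ g (j m) := by
        rw [reassoc_of% e1, reassoc_of% e2, pullback.condition]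
      simpa [hl k, hl' m] using e)
  haveI : Epi n := by
    refine @SplitEpi.epi _ _ _ _ n ⟨pullback.lift (equalizer.ι _ _)
      (pullback.lift (equalizer.ι _ _ ≫ ρ' m ≫ l k) (equalizer.ι _ _ ≫ l' m) (by
        simp only [Category.assoc, hl k, hl' m]
        exact equalizer.condition _ _)) (by apply pullback.hom_ext <;> simp [s, p]), ?_⟩
    apply equalizer.hom_ext
    simp [n]
  exact isQC_of_epi n he

end Groth.Agent.ToposFinLib
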