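import Groth.Agent.ToposFinLib.Basic
import Groth.Agent.GluedTopos.Pointwise

/-!
Finiteness conditions and coproducts in a topos of sheaves of sets.
-/

set_option autoImplicit false
set_option linter.style.haveILetI false
set_option backward.defeqAttrib.useBackward true
set_option backward.isDefEq.respectTransparency false

universe u

open CategoryTheory CategoryTheory.Limits Opposite ToposFin

namespace Groth.Agent.ToposFinLib

variable {C : Type u} [SmallCategory C] {J : GrothendieckTopology C}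

theorem mono_inj {ι : Type u} {F : ι → Sh J} {c : Cofan F} (hc : IsColimit c) (i : ι) : Mono (c.inj i) :=
  mono_of_cofan_isVanKampen (GluedTopos.isVanKampen_sheaf J hc) ⟨i⟩

theorem isInitial_pullback_inj {ι : Type u} {F : ι → Sh J} {c : Cofan F} (hc : IsColimit c) {i j : ι}
    (hij : i ≠ j) : Nonempty (IsInitial (pullback (c.inj i) (c.inj j))) :=
  ⟨IsInitial.ofIso initialIsInitial ((isPullback_initial_to_of_cofan_isVanKampen
    (GluedTopos.isVanKampen_sheaf J hc) ⟨i⟩ ⟨j⟩ (by simpa using hij)).isoPullback)⟩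

/-- A coproduct decomposition pulls back. -/
theorem isColimit_cofan_pullback {ι : Type u} {F : ι → Sh J} {c : Cofan F} (hc : IsColimit c) {W : Sh J}
    (a : W ⟶ c.pt) : Nonempty (IsColimit (Cofan.mk W fun i => pullback.snd (c.inj i) a)) :=
  (GluedTopos.isVanKampen_sheaf J hc).isUniversal (Cofan.mk W fun i => pullback.snd (c.inj i) a)
    (Discrete.natTrans fun i => pullback.fst (c.inj i.as) a) a
    (NatTrans.ext (funext fun _ => pullback.condition)) (NatTrans.Equifibered.of_discrete _)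
    fun j => (IsPullback.of_hasPullback (c.inj j.as) a).flip

/-- A summand of a quasi-compact object is quasi-compact. -/
theorem isQC_component {ι : Type u} {F : ι → Sh J} {c : Cofan F} (hc : IsColimit c) (h : IsQC c.pt) (i : ι) :
    IsQC (F i) := by
  rw [isQC_iff]
  intro κ G π hπ
  haveI := mono_inj hc i
  let G' : (κ ⊕ {j : ι // j ≠ i}) → Sh J := Sum.elim G fun j => F j.1
  let π' : ∀ p, G' p ⟶ c.pt := fun p =>
    match p with
    | .inl k => π k ≫ c.inj i
    | .inr j => c.inj j.1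
  have hπ' : SGA4.IsEpiFamily π' := by
    intro Z a b hab
    refine Cofan.IsColimit.hom_ext hc _ _ fun j => ?_
    rcases eq_or_ne j i with rfl | hj
    · exact hπ Z _ _ fun k => by simpa [π', G'] using hab (.inl k)
    · exact hab (.inr ⟨j, hj⟩)
  obtain ⟨t, ht⟩ := exists_finite_subcover h π' hπ'
  refine ⟨t.toLeft, fun Z a b hab => isEpiFamily_pullback_snd ht (c.inj i) Z a b fun p => ?_⟩
  obtain ⟨k | j, hp⟩ := p
  · have hk : pullback.snd (π k ≫ c.inj i) (c.inj i) = pullback.fst (π k ≫ c.inj i) (c.inj i) ≫ π k := by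
      rw [← cancel_mono (c.inj i), Category.assoc, pullback.condition]
    show pullback.snd (π k ≫ c.inj i) (c.inj i) ≫ a = pullback.snd (π k ≫ c.inj i) (c.inj i) ≫ b
    rw [hk, Category.assoc, Category.assoc, hab ⟨k, Finset.mem_toLeft.2 hp⟩]
  · exact (isInitial_pullback_inj hc j.2).some.hom_ext _ _

theorem isQCHom_inj {ι : Type u} {F : ι → Sh J} {c : Cofan F} (hc : IsColimit c) (i : ι) :
    IsQCHom (c.inj i) := fun K s hK => by
  obtain ⟨h⟩ := isColimit_cofan_pullback hc s
  exact isQC_component h hK i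

theorem exists_lift_coprod {ι : Type u} {F : ι → Sh J} {c : Cofan F} (hc : IsColimit c) (W : Sh J)
    (a : W ⟶ c.pt) (hW : IsQC W) :
    ∃ (κ : Type u) (_ : Finite κ) (G : κ → Sh J) (ρ : ∀ k, G k ⟶ W) (i : κ → ι) (l : ∀ k, G k ⟶ F (i k)),
      (∀ k, IsQC (G k)) ∧ SGA4.IsEpiFamily ρ ∧ ∀ k, l k ≫ c.inj (i k) = ρ k ≫ a := by
  obtain ⟨h⟩ := isColimit_cofan_pullback hc a
  obtain ⟨t, ht⟩ := exists_finite_subcover hW _ (isEpiFamily_of_isColimit h)
  exact ⟨t, inferInstance, fun k => pullback (c.inj k.1) a, fun k => pullback.snd _ _, fun k => k.1,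
    fun k => pullback.fst _ _, fun k => isQC_component h hW k.1, ht, fun k => pullback.condition⟩

theorem isQS_cofan_iff {ι : Type u} {F : ι → Sh J} {c : Cofan F} (hc : IsColimit c) :
    IsQS c.pt ↔ ∀ i, IsQS (F i) := by
  refine ⟨fun h i => ?_, fun h => isQS_of_cover _ (isEpiFamily_of_isColimit hc) h (isQCHom_inj hc)⟩
  haveI := mono_inj hc i
  exact isQS_of_mono (c.inj i) h

theorem isQS_sigma_iff {ι : Type u} (F : ι → Sh J) : IsQS (∐ F) ↔ ∀ i, IsQS (F i) :=
  isQS_cofan_iff (coproductIsCoproduct F)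

theorem isQSHom_cofan_iff {ι : Type u} {F : ι → Sh J} {c : Cofan F} (hc : IsColimit c) {Y : Sh J}
    (f : c.pt ⟶ Y) : IsQSHom f ↔ ∀ i, IsQSHom (c.inj i ≫ f) := by
  refine ⟨fun h i => ?_, fun h => isQSHom_of_source_cover f _ (isQCHom_inj hc) h (exists_lift_coprod hc)⟩
  haveI := mono_inj hc i
  exact isQSHom_comp (isQSHom_of_mono _) h

/-- The criterion for a coproduct to be quasi-compact. -/
theorem isQC_sigma_iff {ι : Type u} (F : ι → Sh J) :
    IsQC (∐ F) ↔ (∀ i, IsQC (F i)) ∧ {i | IsEmpty (F i ≅ ⊥_ (Sh J))}.Finite := by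
  have hc := coproductIsCoproduct F
  constructor
  · intro h
    refine ⟨fun i => isQC_component hc h i, ?_⟩
    obtain ⟨t, ht⟩ := exists_finite_subcover h _ (isEpiFamily_of_isColimit hc)
    refine t.finite_toSet.subset fun i hi => ?_
    by_contra hit
    haveI : Epi (initial.to (F i)) := ⟨fun a b _ => isEpiFamily_pullback_snd ht (Sigma.ι F i) _ a b fun k =>
      (isInitial_pullback_inj hc (fun (e : k.1 = i) => hit (e ▸ k.2))).some.hom_ext _ _⟩
    haveI : Mono (initial.to (F i)) := inferInstance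
    haveI : IsIso (initial.to (F i)) := isIso_of_mono_of_epi _
    exact hi.false (asIso (initial.to (F i))).symm
  · rintro ⟨h₁, h₂⟩
    haveI : Finite {i | IsEmpty (F i ≅ ⊥_ (Sh J))} := h₂
    refine isQC_of_finite_cover (fun i : {i | IsEmpty (F i ≅ ⊥_ (Sh J))} => Sigma.ι F i.1) ?_ fun i => h₁ _
    intro Z a b hab
    refine Sigma.hom_ext _ _ fun i => ?_
    by_cases hi : IsEmpty (F i ≅ ⊥_ (Sh J))
    · exact hab ⟨i, hi⟩
    · obtain ⟨e⟩ := not_isEmpty_iff.1 hi
      exact (IsInitial.ofIso initialIsInitial e.symm).hom_ext _ _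

theorem isCoherent_sigma {ι : Type u} [Finite ι] (F : ι → Sh J) (h : ∀ i, IsCoherent (F i)) :
    IsCoherent (∐ F) :=
  ⟨isQC_of_finite_cover _ (isEpiFamily_sigma F) fun i => (h i).1, (isQS_sigma_iff F).2 fun i => (h i).2⟩

end Groth.Agent.ToposFinLib
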