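import Groth.Agent.ToposFinLib.Coprod

/-!
Products and fibre products of morphisms with finiteness conditions.
-/

set_option autoImplicit false
set_option linter.style.haveILetI false
set_option backward.defeqAttrib.useBackward true
set_option backward.isDefEq.respectTransparency false

universe u

open CategoryTheory CategoryTheory.Limits ToposFin

namespace Groth.Agent.ToposFinLib

variable {C : Type u} [SmallCategory C] {J : GrothendieckTopology C}

theorem mono_prod_lift_pullback {A B T : Sh J} (a : A ⟶ T) (b : B ⟶ T) :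
    Mono (prod.lift (pullback.fst a b) (pullback.snd a b)) :=
  ⟨fun u v h => pullback.hom_ext (by simpa using congrArg (· ≫ prod.fst) h)
    (by simpa using congrArg (· ≫ prod.snd) h)⟩

theorem pullback_map_stable {X Y X' Y' S : Sh J} (f : X ⟶ Y) (f' : X' ⟶ Y') (a : Y ⟶ S) (a' : Y' ⟶ S)
    (P : ∀ {A B : Sh J}, (A ⟶ B) → Prop)
    (hcomp : ∀ {A B D : Sh J} {g : A ⟶ B} {h : B ⟶ D}, P g → P h → P (g ≫ h))
    (hbc : ∀ {A B A' B' : Sh J} {g : A ⟶ B} {p : A' ⟶ A} {g' : A' ⟶ B'} {q : B' ⟶ B}, P g →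
      IsPullback p g' g q → P g') (hf : P f) (hf' : P f') :
    P (pullback.map (f ≫ a) (f' ≫ a') a a' f f' (𝟙 S) (Category.comp_id _) (Category.comp_id _)) := by
  have e : pullback.map (f ≫ a) (f' ≫ a') a a' f f' (𝟙 S) (Category.comp_id _) (Category.comp_id _) =
      pullback.map (f ≫ a) (f' ≫ a') a (f' ≫ a') f (𝟙 X') (𝟙 S) (Category.comp_id _) (by simp) ≫
        pullback.map a (f' ≫ a') a a' (𝟙 Y) f' (𝟙 S) (by simp) (Category.comp_id _) := by
    apply pullback.hom_ext <;> simp
  have sq₁ : IsPullback (pullback.fst (f ≫ a) (f' ≫ a'))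
      (pullback.map (f ≫ a) (f' ≫ a') a (f' ≫ a') f (𝟙 X') (𝟙 S) (Category.comp_id _) (by simp))
      f (pullback.fst a (f' ≫ a')) :=
    IsPullback.of_bot (by simpa using IsPullback.of_hasPullback (f ≫ a) (f' ≫ a')) (by simp)
      (IsPullback.of_hasPullback a (f' ≫ a'))
  have sq₂ : IsPullback (pullback.snd a (f' ≫ a'))
      (pullback.map a (f' ≫ a') a a' (𝟙 Y) f' (𝟙 S) (by simp) (Category.comp_id _))
      f' (pullback.snd a a') :=
    IsPullback.of_bot (by simpa using (IsPullback.of_hasPullback a (f' ≫ a')).flip) (by simp)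
      (IsPullback.of_hasPullback a a').flip
  rw [e]
  exact hcomp (hbc hf sq₁) (hbc hf' sq₂)

end Groth.Agent.ToposFinLib
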