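import Groth.Agent.ToposFinLib.Filtered
import Groth.Agent.ToposFinLib.Generators

/-!
Presentations of objects by coherent objects.
-/

set_option autoImplicit false
set_option linter.style.haveILetI false
set_option backward.defeqAttrib.useBackward true
set_option backward.isDefEq.respectTransparency false

universe u

open CategoryTheory CategoryTheory.Limits Opposite ToposFin

namespace Groth.Agent.ToposFinLib

variable {C : Type u} [SmallCategory C] {J : GrothendieckTopology C}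

theorem hasQCGenerators_of_coherent (hE : HasCoherentGenerators J) : HasQCGenerators J := fun X => by
  obtain ⟨ι, F, π, h₁, h₂⟩ := hE X
  exact ⟨ι, F, π, fun i => (h₁ i).1, h₂⟩

/-- Every object is a filtered colimit of coequalizers of coherent objects. -/
theorem exists_presentation (hE : HasCoherentGenerators J) (X : Sh J) :
    ∃ (I : Type u) (_ : SmallCategory I) (_ : IsFiltered I) (D : I ⥤ Sh J),
      (∀ i, ∃ (X₀ X₁ : Sh J) (a b : X₁ ⟶ X₀), IsCoherent X₀ ∧ IsCoherent X₁ ∧ Nonempty (D.obj i ≅ coequalizer a b)) ∧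
      Nonempty (X ≅ colimit D) := by
  classical
  obtain ⟨ι, F, π, hF, hπ₀⟩ := hE X
  have hπ := (epi_desc_iff π).1 hπ₀
  choose κ R ρ hR hρ₀ using fun p : ι × ι => hE (pullback (π p.1) (π p.2))
  let Rel := Σ p : ι × ι, κ p
  let I := { st : Finset ι × Finset Rel // ∀ r ∈ st.2, r.1.1 ∈ st.1 ∧ r.1.2 ∈ st.1 }
  haveI : Nonempty I := ⟨⟨(∅, ∅), by simp⟩⟩
  haveI : IsDirectedOrder I := ⟨fun a b => ⟨⟨(a.1.1 ∪ b.1.1, a.1.2 ∪ b.1.2), fun r hr => by
    rcases Finset.mem_union.1 hr with h | h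
    · exact ⟨Finset.mem_union_left _ (a.2 r h).1, Finset.mem_union_left _ (a.2 r h).2⟩
    · exact ⟨Finset.mem_union_right _ (b.2 r h).1, Finset.mem_union_right _ (b.2 r h).2⟩⟩,
    ⟨Finset.subset_union_left, Finset.subset_union_left⟩, ⟨Finset.subset_union_right, Finset.subset_union_right⟩⟩⟩
  let A : I → Sh J := fun a => ∐ fun i : a.1.1 => F i
  let B : I → Sh J := fun a => ∐ fun r : a.1.2 => R r.1.1 r.1.2
  let u : ∀ a : I, B a ⟶ A a := fun a => Sigma.desc fun r =>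
    ρ r.1.1 r.1.2 ≫ pullback.fst _ _ ≫ Sigma.ι (fun i : a.1.1 => F i) ⟨r.1.1.1, (a.2 r.1 r.2).1⟩
  let v : ∀ a : I, B a ⟶ A a := fun a => Sigma.desc fun r =>
    ρ r.1.1 r.1.2 ≫ pullback.snd _ _ ≫ Sigma.ι (fun i : a.1.1 => F i) ⟨r.1.1.2, (a.2 r.1 r.2).2⟩
  let tA : ∀ {a b : I}, a ≤ b → (A a ⟶ A b) := fun {a b} h =>
    Sigma.desc fun i => Sigma.ι (fun i : b.1.1 => F i) ⟨i.1, h.1 i.2⟩
  have htA : ∀ {a b : I} (h : a ≤ b), u a ≫ tA h ≫ coequalizer.π (u b) (v b) = v a ≫ tA h ≫ coequalizer.π (u b) (v b) :=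
    fun {a b} h => Sigma.hom_ext _ _ fun r => by
      simpa [u, v, tA] using congrArg (Sigma.ι (fun r : b.1.2 => R r.1.1 r.1.2) ⟨r.1, h.2 r.2⟩ ≫ ·)
        (coequalizer.condition (u b) (v b))
  let D : I ⥤ Sh J :=
    { obj := fun a => coequalizer (u a) (v a)
      map := fun {a b} h => coequalizer.desc (tA (leOfHom h) ≫ coequalizer.π (u b) (v b)) (htA (leOfHom h))
      map_id := fun a => coequalizer.hom_ext (Sigma.hom_ext _ _ fun i => by simp [tA])
      map_comp := fun {a b c} f g => coequalizer.hom_ext (Sigma.hom_ext _ _ fun i => by simp [tA]) }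
  let q : ∀ a : I, A a ⟶ D.obj a := fun a => coequalizer.π (u a) (v a)
  have hD : ∀ {a b : I} (h : a ≤ b) (i : ι) (hi : i ∈ a.1.1),
      Sigma.ι (fun i : a.1.1 => F i) ⟨i, hi⟩ ≫ q a ≫ colimit.ι D a =
        Sigma.ι (fun i : b.1.1 => F i) ⟨i, h.1 hi⟩ ≫ q b ≫ colimit.ι D b := fun {a b} h i hi => by
    rw [← colimit.w D (homOfLE h)]
    simp [D, q, tA]
  let one : ι → I := fun i => ⟨({i}, ∅), by simp⟩
  let e : ∀ i, F i ⟶ colimit D := fun i =>
    Sigma.ι (fun j : (one i).1.1 => F j) ⟨i, Finset.mem_singleton_self i⟩ ≫ q (one i) ≫ colimit.ι D (one i)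
  obtain ⟨φ, hφ⟩ := exists_desc_hom π hπ e fun i j => by
    refine (epi_desc_iff (ρ (i, j))).1 (hρ₀ (i, j)) _ _ _ fun k => ?_
    let a : I := ⟨({i, j}, {⟨(i, j), k⟩}), by simp⟩
    have ei := hD (a := one i) (b := a) ⟨by simp [one, a], by simp [one, a]⟩ i (by simp [one])
    have ej := hD (a := one j) (b := a) ⟨by simp [one, a], by simp [one, a]⟩ j (by simp [one])
    have hc := congrArg (Sigma.ι (fun r : a.1.2 => R r.1.1 r.1.2) ⟨⟨(i, j), k⟩, by simp [a]⟩ ≫ · ≫ colimit.ι D a)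
      (coequalizer.condition (u a) (v a))
    simp only [u, v, colimit.ι_desc_assoc, Category.assoc] at hc
    simp only [e, ei, ej]
    simpa [q] using hc
  let c : Cocone D :=
    { pt := X
      ι :=
        { app := fun a => coequalizer.desc (Sigma.desc fun i => π i) (Sigma.hom_ext _ _ fun r => by
            simp [u, v, pullback.condition])
          naturality := fun a b h => coequalizer.hom_ext (Sigma.hom_ext _ _ fun i => by simp [D, tA]) } }
  let ψ : colimit D ⟶ X := colimit.desc D c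
  refine ⟨I, inferInstance, inferInstance, D, fun a => ⟨A a, B a, u a, v a, isCoherent_sigma _ fun i => hF i,
    isCoherent_sigma _ fun r => hR _ _, ⟨Iso.refl _⟩⟩, ⟨⟨φ, ψ, ?_, ?_⟩⟩⟩
  · refine hπ _ _ _ fun i => ?_
    rw [reassoc_of% (hφ i), Category.comp_id]
    simp [e, ψ, c, q]
  · refine colimit.hom_ext fun a => coequalizer.hom_ext (Sigma.hom_ext _ _ fun i => ?_)
    have h := hD (a := one i) (b := a) ⟨by simpa [one] using i.2, by simp [one]⟩ i (by simp [one])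
    simpa [ψ, c, hφ, e, q] using h

theorem isFP_iff_retract (hE : HasCoherentGenerators J) (X : Sh J) :
    IsFP X ↔ ∃ (X₀ X₁ : Sh J) (a b : X₁ ⟶ X₀) (i : X ⟶ coequalizer a b)
      (p : coequalizer a b ⟶ X), IsCoherent X₀ ∧ IsCoherent X₁ ∧ i ≫ p = 𝟙 X := by
  constructor
  · intro h
    obtain ⟨I, _, _, D, hD, ⟨e⟩⟩ := exists_presentation hE X
    obtain ⟨k, x, hx⟩ := ((isFP_iff X).1 h I D).2 e.hom
    obtain ⟨X₀, X₁, a, b, h₀, h₁, ⟨f⟩⟩ := hD k
    exact ⟨X₀, X₁, a, b, x ≫ f.hom, f.inv ≫ colimit.ι D k ≫ e.inv, h₀, h₁, by simp [reassoc_of% hx]⟩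
  · rintro ⟨X₀, X₁, a, b, i, p, h₀, h₁, hip⟩
    exact isFP_of_retract i p hip (isFP_coequalizer a b (isFP_of_coherent (hasQCGenerators_of_coherent hE) h₀) h₁.1)

theorem coherent_coequalizer_iff (hE : HasCoherentGenerators J) :
    ((∀ (X₀ X₁ : Sh J) (a b : X₁ ⟶ X₀), IsCoherent X₀ → IsCoherent X₁ → IsCoherent (coequalizer a b)) ↔
      (∀ X : Sh J, IsFP X → IsCoherent X)) ∧
    ((∀ X : Sh J, ∃ (I : Type u) (_ : SmallCategory I) (_ : IsFiltered I) (D : I ⥤ Sh J),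
        (∀ i, IsCoherent (D.obj i)) ∧ Nonempty (X ≅ colimit D)) ↔
      (∀ X : Sh J, IsFP X → IsCoherent X)) := by
  have hco : (∀ X : Sh J, IsFP X → IsCoherent X) → ∀ (X₀ X₁ : Sh J) (a b : X₁ ⟶ X₀),
      IsCoherent X₀ → IsCoherent X₁ → IsCoherent (coequalizer a b) := fun h X₀ X₁ a b h₀ h₁ =>
    h _ (isFP_coequalizer a b (isFP_of_coherent (hasQCGenerators_of_coherent hE) h₀) h₁.1)
  refine ⟨⟨fun h X hX => ?_, hco⟩, ⟨fun h X hX => ?_, fun h X => ?_⟩⟩
  · obtain ⟨X₀, X₁, a, b, i, p, h₀, h₁, hip⟩ := (isFP_iff_retract hE X).1 hX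
    exact isCoherent_of_retract i p hip (h _ _ a b h₀ h₁)
  · obtain ⟨I, _, _, D, hD, ⟨e⟩⟩ := h X
    obtain ⟨k, x, hx⟩ := ((isFP_iff X).1 hX I D).2 e.hom
    exact isCoherent_of_retract x (colimit.ι D k ≫ e.inv) (by simp [reassoc_of% hx]) (hD k)
  · obtain ⟨I, i₁, i₂, D, hD, e⟩ := exists_presentation hE X
    refine ⟨I, i₁, i₂, D, fun k => ?_, e⟩
    obtain ⟨X₀, X₁, a, b, h₀, h₁, ⟨f⟩⟩ := hD k
    exact isCoherent_of_retract f.hom f.inv f.hom_inv_id (hco h _ _ a b h₀ h₁)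

/-- A generating set of quasi-compact objects stable under finite colimits and fibre products is the set of all
coherent objects. -/
theorem eq_coherent {S : Set (Sh J)} (hqc : ∀ K ∈ S, IsQC K)
    (hiso : ∀ ⦃K L : Sh J⦄, K ∈ S → Nonempty (K ≅ L) → L ∈ S)
    (hgen : IsGenerating S) (hpb : ClosedUnderPullbacks S)
    (hcolim : ∀ (K : Type) [SmallCategory K] [FinCategory K] (D : K ⥤ Sh J),
      (∀ k, D.obj k ∈ S) → colimit D ∈ S) :
    (∀ X : Sh J, X ∈ S ↔ IsCoherent X) ∧ (∀ X : Sh J, IsFP X → IsCoherent X) := by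
  classical
  have hco : ∀ {K : Sh J}, K ∈ S → IsCoherent K := fun hK => isCoherent_of_mem hqc hgen hpb hK
  have hcoeq : ∀ {K L : Sh J} (a b : K ⟶ L), K ∈ S → L ∈ S → coequalizer a b ∈ S := fun {K L} a b hK hL => by
    exact hcolim WalkingParallelPair (parallelPair a b) (fun k => by cases k <;> assumption)
  have hcover : ∀ (Z : Sh J), IsQC Z → ∃ (K : Sh J) (p : K ⟶ Z), K ∈ S ∧ Epi p := fun Z hZ => by
    obtain ⟨ι, F, π, h₁, h₂⟩ := hgen Z
    obtain ⟨t, ht⟩ := exists_finite_subcover hZ π h₂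
    let e := t.equivFin.symm
    let G := Discrete.functor fun k : Fin t.card => F (e k).1
    refine ⟨colimit G, Sigma.desc fun k => π (e k).1, hcolim _ G fun k => h₁ _, ⟨fun a b hab => ht _ a b fun i => ?_⟩⟩
    obtain ⟨k, rfl⟩ := e.surjective i
    simpa using congrArg (Sigma.ι (fun k => F (e k).1) k ≫ ·) hab
  have hmem : ∀ X : Sh J, IsCoherent X → X ∈ S := fun X hX => by
    obtain ⟨K, p, hK, _⟩ := hcover X hX.1
    obtain ⟨L, l, hL, _⟩ := hcover _ (hX.2 K K p p (hqc K hK) (hqc K hK))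
    have hpo := GluedTopos.isPushout_of_epi J (IsPullback.of_hasPullback p p)
    let d : coequalizer (l ≫ pullback.fst p p) (l ≫ pullback.snd p p) ⟶ X :=
      coequalizer.desc p (by simp only [Category.assoc, pullback.condition])
    have hw : pullback.fst p p ≫ coequalizer.π (l ≫ pullback.fst p p) (l ≫ pullback.snd p p) =
        pullback.snd p p ≫ coequalizer.π (l ≫ pullback.fst p p) (l ≫ pullback.snd p p) := by
      rw [← cancel_epi l]
      simpa using coequalizer.condition (l ≫ pullback.fst p p) (l ≫ pullback.snd p p)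
    refine hiso (hcoeq (l ≫ pullback.fst p p) (l ≫ pullback.snd p p) hL hK) ⟨⟨d, hpo.desc _ _ hw, ?_, ?_⟩⟩
    · apply coequalizer.hom_ext
      simp [d]
    · rw [← cancel_epi p]
      simp [d]
  refine ⟨fun X => ⟨hco, hmem X⟩, fun X hX => ?_⟩
  have hE : HasCoherentGenerators J := fun Z => by
    obtain ⟨ι, F, π, h₁, h₂⟩ := hgen Z
    exact ⟨ι, F, π, fun i => hco (h₁ i), (epi_desc_iff π).2 h₂⟩
  obtain ⟨X₀, X₁, a, b, i, p, h₀, h₁, hip⟩ := (isFP_iff_retract hE X).1 hX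
  exact isCoherent_of_retract i p hip (hco (hcoeq a b (hmem _ h₁) (hmem _ h₀)))

end Groth.Agent.ToposFinLib
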